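import Cfsg.Agent.Base
import Cfsg.Agent.BS.Tools
import Cfsg.Agent.Char.Linear
import Cfsg.Agent.Char.InduceChar
import Cfsg.Agent.Invol.Dihedral

/-!
# Brauer–Suzuki–Wall: the hypothesis and the induced functions

`K` is an abelian TI-subgroup with a unique involution `t`, inverted by the involution `s`, with
normalizer `K⟨s⟩ = C(t)`; all involutions are conjugate.
-/

set_option autoImplicit false

open Cfsg CL.Char Subgroup
open scoped ComplexConjugate

namespace CL.BSW

variable {G : Type*} [Group G]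

/-- The Brauer–Suzuki–Wall hypothesis. -/
structure Hyp (K : Subgroup G) (t s : G) : Prop where
  t_mem : t ∈ K
  t_ord : orderOf t = 2
  comm : ∀ a ∈ K, ∀ b ∈ K, a * b = b * a
  uniq : ∀ x ∈ K, x * x = 1 → x = 1 ∨ x = t
  s_not : s ∉ K
  s_sq : s * s = 1
  s_inv : ∀ x ∈ K, s * x * s⁻¹ = x⁻¹
  ti : ∀ g : G, ∀ x ∈ K, x ≠ 1 → g * x * g⁻¹ ∈ K → g ∈ K ∨ s * g ∈ K
  one_class : ∀ u : G, orderOf u = 2 → IsConj t u

namespace Hyp

variable {K : Subgroup G} {t s : G} (h : Hyp K t s)
include h

theorem t_sq : t * t = 1 := CL.Invol.mul_self_of_orderOf_two h.t_ord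

theorem t_ne : t ≠ 1 := CL.Invol.ne_one_of_orderOf_two h.t_ord

theorem s_inv_eq : s⁻¹ = s := inv_eq_of_mul_eq_one_right h.s_sq

theorem s_mul_s_mul (x : G) : s * (s * x) = x := by rw [← mul_assoc, h.s_sq, one_mul]

theorem s_mul_s {x : G} (hx : x ∈ K) : s * x * s = x⁻¹ := by
  have := h.s_inv x hx
  rwa [h.s_inv_eq] at this

theorem mul_s {x : G} (hx : x ∈ K) : x * s = s * x⁻¹ := by
  rw [← h.s_mul_s hx, ← mul_assoc, h.s_mul_s_mul]

theorem outer_conj {g : G} (hg : s * g ∈ K) {x : G} (hx : x ∈ K) : g * x * g⁻¹ = x⁻¹ := by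
  have h1 : g = s * (s * g) := (h.s_mul_s_mul g).symm
  have h2 : (s * g) * x * (s * g)⁻¹ = x := by rw [h.comm _ hg x hx, mul_inv_cancel_right]
  calc g * x * g⁻¹ = s * ((s * g) * x * (s * g)⁻¹) * s⁻¹ := by
        conv_lhs => rw [h1]
        group
    _ = x⁻¹ := by rw [h2, h.s_inv x hx]

theorem inner_conj {g : G} (hg : g ∈ K) {x : G} (hx : x ∈ K) : g * x * g⁻¹ = x := by
  rw [h.comm _ hg x hx, mul_inv_cancel_right]

theorem outer_sq {g : G} (hg : s * g ∈ K) : g * g = 1 := by
  have h1 := h.s_mul_s hg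
  have h2 : g * g = s * (s * g) * s * (s * g) := by
    rw [h.s_mul_s_mul, mul_assoc, h.s_mul_s_mul]
  rw [h2, h1, inv_mul_cancel]

theorem outer_not_mem {g : G} (hg : s * g ∈ K) : g ∉ K := fun hk => h.s_not (by
  simpa using K.mul_mem hg (K.inv_mem hk))

theorem outer_ord {g : G} (hg : s * g ∈ K) : orderOf g = 2 :=
  CL.Invol.orderOf_two_of_mul_self (fun e => h.outer_not_mem hg (e ▸ K.one_mem)) (h.outer_sq hg)

theorem outer_inv {g : G} (hg : s * g ∈ K) : s * g⁻¹ ∈ K := by
  rwa [inv_eq_of_mul_eq_one_right (h.outer_sq hg)]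

omit h in
theorem outer_mul {g x : G} (hg : s * g ∈ K) (hx : x ∈ K) : s * (g * x) ∈ K := by
  rw [← mul_assoc]; exact K.mul_mem hg hx

theorem ti' {g x : G} (hx : x ∈ K) (hx1 : x ≠ 1) (hg : g⁻¹ * x * g ∈ K) : g ∈ K ∨ s * g ∈ K := by
  rcases h.ti g⁻¹ x hx hx1 (by simpa using hg) with h1 | h1
  · exact Or.inl (by simpa using h1)
  · exact Or.inr (by simpa using h.outer_inv h1)

theorem mem_centralizer_iff {g : G} : g ∈ centralizer ({t} : Set G) ↔ g ∈ K ∨ s * g ∈ K := by
  rw [mem_centralizer_singleton_iff]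
  constructor
  · intro hg
    exact h.ti g t h.t_mem h.t_ne (by rw [hg, mul_inv_cancel_right]; exact h.t_mem)
  · rintro (hg | hg)
    · exact h.comm _ hg _ h.t_mem
    · have := h.outer_conj hg h.t_mem
      rw [inv_eq_of_mul_eq_one_right h.t_sq] at this
      exact mul_inv_eq_iff_eq_mul.1 this

theorem of_commute {g x : G} (hx : x ∈ K) (hx1 : x ≠ 1) (hg : g * x = x * g) :
    g ∈ K ∨ s * g ∈ K :=
  h.ti g x hx hx1 (by rw [hg, mul_inv_cancel_right]; exact hx)

theorem le_centralizer : K ≤ centralizer ({t} : Set G) :=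
  fun _ hg => h.mem_centralizer_iff.2 (Or.inl hg)

theorem relIndex_eq : K.relIndex (centralizer ({t} : Set G)) = 2 := by
  rw [relIindex_eq_two_iff']
  refine ⟨s, h.mem_centralizer_iff.2 (Or.inr (by rw [h.s_sq]; exact K.one_mem)), fun b hb => ?_⟩
  rcases h.mem_centralizer_iff.1 hb with h1 | h1
  · exact Or.inr ⟨h1, fun h2 => h.outer_not_mem h2 h1⟩
  · exact Or.inl ⟨h1, h.outer_not_mem h1⟩

theorem card_centralizer : Nat.card (centralizer ({t} : Set G)) = 2 * Nat.card K := by
  rw [← h.relIndex_eq, mul_comm, relIndex, ← Nat.card_congr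
    (subgroupOfEquivOfLe h.le_centralizer).toEquiv, card_mul_index]

theorem card_eq : Nat.card G = 2 * Nat.card K * (centralizer ({t} : Set G)).index := by
  rw [← h.card_centralizer, card_mul_index]

theorem isConj_iff_ord {u : G} : IsConj t u ↔ orderOf u = 2 :=
  ⟨fun hc => by rw [← CL.Invol.IsConj.orderOf_eq' hc, h.t_ord], h.one_class u⟩

theorem even_card [Finite G] : 2 ∣ Nat.card K := by
  rw [← h.t_ord, ← orderOf_mk t h.t_mem]
  exact orderOf_dvd_natCard _

/-- The real linear characters of `K`. -/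
theorem exists_real [Finite G] : ∃ μ : K →* ℂˣ, μ ≠ 1 ∧ μ⁻¹ = μ ∧
    ∀ l : K →* ℂˣ, l⁻¹ = l → l = 1 ∨ l = μ := by
  let _ : CommGroup K := { (inferInstance : Group K) with
    mul_comm := fun a b => Subtype.ext (h.comm _ a.2 _ b.2) }
  obtain ⟨e⟩ := CommGroup.monoidHom_mulEquiv_of_hasEnoughRootsOfUnity K ℂ
  refine ⟨e.symm ⟨t, h.t_mem⟩, fun h1 => h.t_ne ?_, ?_, fun l hl => ?_⟩
  · rw [map_eq_one_iff _ e.symm.injective] at h1
    exact congrArg Subtype.val h1
  · refine inv_eq_of_mul_eq_one_right (G := K →* ℂˣ) ?_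
    rw [← map_mul, map_eq_one_iff _ e.symm.injective]
    exact Subtype.ext h.t_sq
  · have h2 : e l * e l = 1 := by
      rw [← map_mul]
      nth_rewrite 1 [← hl]
      rw [inv_mul_cancel, map_one]
    rcases h.uniq _ (e l).2 (congrArg Subtype.val h2) with h3 | h3
    · exact Or.inl (e.injective (by rw [map_one]; exact Subtype.ext h3))
    · exact Or.inr (e.injective (by rw [e.apply_symm_apply]; exact Subtype.ext h3))

variable [Fintype G]

theorem ind_apply (α : K → ℂ) (x : K) (hx : x ≠ 1) : indFun K α x = α x + α x⁻¹ := by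
  have hs : s⁻¹ * x * s = ((x⁻¹ : K) : G) := by rw [h.s_inv_eq, h.s_mul_s x.2]; rfl
  have hm : s⁻¹ * x * s ∈ K := hs ▸ (x⁻¹).2
  rw [CL.BS.indFun_apply_of_two_cosets K h.s_not
    (isClassFunction_of_comm (fun a b => Subtype.ext (h.comm _ a.2 _ b.2)) α) x hm
    (fun g hg _ => by
      rw [h.s_inv_eq]
      exact h.ti' x.2 (fun e => hx (Subtype.ext e)) hg)]
  congr 2
  exact Subtype.ext hs

theorem inner_ind [Fintype K] {α : K → ℂ} (hα : α 1 = 0) (β : K → ℂ) :
    classInner (indFun K α) (indFun K β) = classInner α β + classInner α (fun x => β x⁻¹) := by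
  rw [classInner_indFun_left K α (indFun_isClassFunction K β), ← classInner_add_right,
    classInner_def, classInner_def]
  congr 1
  refine Finset.sum_congr rfl fun x _ => ?_
  by_cases hx : x = 1
  · rw [hx, hα, zero_mul, zero_mul]
  · rw [h.ind_apply β x hx]; rfl

open Classical in
/-- Number of ways to write an element of `K#` as a product of two involutions. -/
theorem card_pairs {x : G} (hx : x ∈ K) (hx1 : x ≠ 1) :
    (Finset.univ.filter fun u : G => IsConj t u ∧ IsConj t (u⁻¹ * x)).card = Nat.card K := by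
  have e : (Finset.univ.filter fun u : G => IsConj t u ∧ IsConj t (u⁻¹ * x)) =
      (Finset.univ.filter fun y : G => y ∈ K).map (Equiv.mulLeft s).toEmbedding := by
    ext u
    simp only [Finset.mem_filter, Finset.mem_univ, true_and, Finset.mem_map_equiv,
      Equiv.mulLeft_symm, Equiv.coe_mulLeft, h.s_inv_eq, h.isConj_iff_ord]
    constructor
    · rintro ⟨hu, hv⟩
      have hu2 := CL.Invol.mul_self_of_orderOf_two hu
      have hv2 := CL.Invol.mul_self_of_orderOf_two hv
      have hui : u⁻¹ = u := inv_eq_of_mul_eq_one_right hu2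
      rw [hui] at hv hv2
      have h1 : u * x * u⁻¹ = x⁻¹ := by
        rw [hui, eq_inv_iff_mul_eq_one, mul_assoc]; exact hv2
      rcases h.ti u x hx hx1 (h1 ▸ K.inv_mem hx) with h2 | h2
      · exfalso
        have h3 := (h.uniq u h2 hu2).resolve_left (CL.Invol.ne_one_of_orderOf_two hu)
        have h4 := (h.uniq _ (K.mul_mem h2 hx) hv2).resolve_left
          (CL.Invol.ne_one_of_orderOf_two hv)
        rw [← h3] at h4
        exact hx1 (by simpa using h4)
      · exact h2
    · intro hu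
      exact ⟨h.outer_ord hu, h.outer_ord (outer_mul (h.outer_inv hu) hx)⟩
  rw [e, Finset.card_map, Nat.card_eq_fintype_card, Fintype.card_subtype]

open Classical in
/-- The involution counting identity. -/
theorem sum_pairs_ind [Fintype K] {α : K → ℂ} (hα : α 1 = 0) :
    ∑ u with IsConj t u, ∑ v with IsConj t v, indFun K α (u * v) =
      (Nat.card G : ℂ) * ∑ x, α x := by
  let β : G → ℂ := fun x =>
    ((Finset.univ.filter fun u : G => IsConj t u ∧ IsConj t (u⁻¹ * x)).card : ℂ)
  have hβ : IsClassFunction G β := by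
    intro x g
    simp only [β]
    congr 1
    refine Finset.card_bij (fun u _ => g⁻¹ * u * g) ?_ ?_ ?_
    · intro u hu
      simp only [Finset.mem_filter, Finset.mem_univ, true_and] at hu ⊢
      refine ⟨hu.1.trans (isConj_iff.2 ⟨g⁻¹, by group⟩), hu.2.trans (isConj_iff.2 ⟨g⁻¹, by group⟩)⟩
    · intro u _ v _ huv
      simpa using huv
    · intro u hu
      simp only [Finset.mem_filter, Finset.mem_univ, true_and] at hu ⊢
      exact ⟨g * u * g⁻¹, ⟨hu.1.trans (isConj_iff.2 ⟨g, by group⟩),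
        hu.2.trans (isConj_iff.2 ⟨g, by group⟩)⟩, by group⟩
  have h1 : ∑ u with IsConj t u, ∑ v with IsConj t v, indFun K α (u * v) =
      ∑ x, indFun K α x * β x := by
    calc ∑ u with IsConj t u, ∑ v with IsConj t v, indFun K α (u * v)
        = ∑ u, ∑ x, if IsConj t u ∧ IsConj t (u⁻¹ * x) then indFun K α x else 0 := by
          rw [Finset.sum_filter]
          refine Finset.sum_congr rfl fun u _ => ?_
          by_cases hu : IsConj t u
          · simp only [hu, if_true, true_and, Finset.sum_filter]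
            exact Fintype.sum_equiv (Equiv.mulLeft u) _ _ fun v => by simp
          · simp only [hu, if_false, false_and, Finset.sum_const_zero]
      _ = _ := by
          rw [Finset.sum_comm]
          refine Finset.sum_congr rfl fun x _ => ?_
          rw [← Finset.sum_filter, Finset.sum_const, nsmul_eq_mul, mul_comm]
  have h2 := sum_indFun_mul K α hβ
  have h3 : ∑ x : K, α x * β x = (Nat.card K : ℂ) * ∑ x, α x := by
    rw [Finset.mul_sum]
    refine Finset.sum_congr rfl fun x _ => ?_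
    by_cases hx : x = 1
    · rw [hx, hα, zero_mul, mul_zero]
    · simp only [β]
      rw [h.card_pairs x.2 (fun e => hx (Subtype.ext e)), mul_comm]
  rw [h3, ← mul_assoc, inv_mul_cancel₀ (natCard_cast_ne_zero K), one_mul] at h2
  rw [h1, ← h2, ← mul_assoc, mul_inv_cancel₀ (natCard_cast_ne_zero G), one_mul]

end Hyp

end CL.BSW
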