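import Cfsg.Agent.Base
import Cfsg.Agent.GW.BSWBasic
import Cfsg.Agent.Char.TI

/-!
# Brauer–Suzuki–Wall: the Steinberg character and the group order
-/

set_option autoImplicit false

open Cfsg CL.Char Subgroup
open scoped ComplexConjugate

namespace CL.BSW

theorem lin_inv_inv {A : Type*} [Group A] (l : A →* ℂˣ) : l⁻¹⁻¹ = l := by ext; simp

theorem lin_inv_one {A : Type*} [Group A] : (1 : A →* ℂˣ)⁻¹ = 1 := by ext; simp

theorem lin_inv_ne_one {A : Type*} [Group A] {l : A →* ℂˣ} (h : l ≠ 1) : l⁻¹ ≠ 1 := fun e =>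
  h (by rw [← lin_inv_inv l, e, lin_inv_one])

theorem lin_mul_cancel {A : Type*} [Group A] {l m n : A →* ℂˣ} (h : l * n = m * n) : l = m := by
  ext x
  have := DFunLike.congr_fun h x
  simp only [MonoidHom.mul_apply, mul_left_inj] at this
  rw [this]

variable {G : Type*} [Group G] [Fintype G]

/-- The virtual character `(1 - λ)^G`. -/
noncomputable def theta (K : Subgroup G) (l : K →* ℂˣ) : G → ℂ :=
  indFun K ((fun _ => 1) - fun x => (l x : ℂ))

theorem gen_theta (K : Subgroup G) (l : K →* ℂˣ) : IsGeneralizedCharacter G (theta K l) :=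
  gen_indFun K (gen_sub gen_one (gen_of_char (isCharacter_linear l)))

theorem theta_one (K : Subgroup G) (l : K →* ℂˣ) : theta K l 1 = 0 := by
  rw [theta, indFun_one]; simp

theorem theta_trivial (K : Subgroup G) : theta K 1 = 0 := by
  rw [theta, ← indFun_zero K]
  congr 1
  ext x
  simp

theorem theta_eq_zero (K : Subgroup G) (l : K →* ℂˣ) {x : G} (hx : ∀ g : G, g * x * g⁻¹ ∉ K) :
    theta K l x = 0 := indFun_eq_zero_of_not_conj K _ hx

open Classical in
theorem inner_one_sub {A : Type*} [Group A] [Fintype A] {l m : A →* ℂˣ} (hl : l ≠ 1) (hm : m ≠ 1) :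
    classInner ((fun _ => (1 : ℂ)) - fun x => (l x : ℂ)) ((fun _ => 1) - fun x => (m x : ℂ)) =
      1 + if l = m then 1 else 0 := by
  have e : (fun _ : A => (1 : ℂ)) = fun x => ((1 : A →* ℂˣ) x : ℂ) := by ext; simp
  rw [classInner_sub_left, classInner_sub_right, classInner_sub_right, e, classInner_linear,
    classInner_linear, classInner_linear, classInner_linear, if_pos rfl, if_neg hl, if_neg hm.symm]
  ring

theorem inner_theta_one (K : Subgroup G) {l : K →* ℂˣ} (hl : l ≠ 1) :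
    classInner (theta K l) (fun _ => 1) = 1 := by
  classical
  have := Fintype.ofFinite K
  have e : (fun _ : K => (1 : ℂ)) = fun x => ((1 : K →* ℂˣ) x : ℂ) := by ext; simp
  rw [theta, classInner_indFun_one, classInner_sub_left, classInner_one_one, e, classInner_linear,
    if_neg hl, sub_zero]

/-- The data attached to a non-real linear character. -/
structure Dat (K : Subgroup G) (μ l : K →* ℂˣ) (δ : ℤ) (S R : G → ℂ) : Prop where
  sign : δ = 1 ∨ δ = -1
  irrS : IsIrrCharacter G S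
  irrR : IsIrrCharacter G R
  neS : S ≠ fun _ => 1
  neR : R ≠ fun _ => 1
  ne : S ≠ R
  eq : theta K l = (fun _ => 1) + (δ : ℂ) • (S - R)
  muS : classInner (theta K μ) S = δ
  muR : classInner (theta K μ) R = 0

theorem Dat.sq {K : Subgroup G} {μ l : K →* ℂˣ} {δ : ℤ} {S R : G → ℂ} (d : Dat K μ l δ S R) :
    (δ : ℂ) * δ = 1 := by
  rcases d.sign with rfl | rfl <;> norm_num

theorem Dat.apply {K : Subgroup G} {μ l : K →* ℂˣ} {δ : ℤ} {S R : G → ℂ} (d : Dat K μ l δ S R)
    (x : G) : theta K l x = 1 + δ * (S x - R x) := by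
  rw [d.eq]; simp

theorem Dat.innerS {K : Subgroup G} {μ l : K →* ℂˣ} {δ : ℤ} {S R : G → ℂ}
    (d : Dat K μ l δ S R) : classInner S (theta K l) = δ := by
  rw [d.eq, classInner_add_right, classInner_smul_right, classInner_sub_right,
    irr_inner_one d.irrS d.neS, irr_inner_self d.irrS, irr_inner_of_ne d.irrS d.irrR d.ne]
  simp

theorem Dat.innerR {K : Subgroup G} {μ l : K →* ℂˣ} {δ : ℤ} {S R : G → ℂ}
    (d : Dat K μ l δ S R) : classInner R (theta K l) = -δ := by
  rw [d.eq, classInner_add_right, classInner_smul_right, classInner_sub_right,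
    irr_inner_one d.irrR d.neR, irr_inner_self d.irrR, irr_inner_of_ne d.irrR d.irrS d.ne.symm]
  simp

open Classical in
theorem Dat.inner {K : Subgroup G} {μ l l' : K →* ℂˣ} {δ δ' : ℤ} {S R S' R' : G → ℂ}
    (d : Dat K μ l δ S R) (d' : Dat K μ l' δ' S' R') :
    classInner (theta K l) (theta K l') =
      ((1 + δ * δ' * ((if S = S' then 1 else 0) + if R = R' then 1 else 0) : ℤ) : ℂ) := by
  have h1 : S ≠ R' := by
    intro e
    have := d.muS
    rw [e, d'.muR] at this
    rcases d.sign with rfl | rfl <;> norm_num at this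
  have h2 : R ≠ S' := by
    intro e
    have := d'.muS
    rw [← e, d.muR] at this
    rcases d'.sign with rfl | rfl <;> norm_num at this
  have a1 : classInner (fun _ => 1) (S' - R') = 0 := by
    rw [classInner_sub_right, irr_inner_of_ne irr_one d'.irrS d'.neS.symm,
      irr_inner_of_ne irr_one d'.irrR d'.neR.symm, sub_zero]
  have a2 : classInner (S - R) (fun _ => 1) = 0 := by
    rw [classInner_sub_left, irr_inner_one d.irrS d.neS, irr_inner_one d.irrR d.neR, sub_zero]
  rw [d.eq, d'.eq, classInner_add_left, classInner_add_right, classInner_add_right,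
    classInner_smul_left, classInner_smul_left, classInner_smul_right, classInner_smul_right, a1, a2,
    classInner_one_one, classInner_sub_sub d.irrS d.irrR d'.irrS d'.irrR, if_neg h1, if_neg h2]
  simp [mul_assoc]
where
  classInner_sub_sub {a b c d : G → ℂ} (ha : IsIrrCharacter G a) (hb : IsIrrCharacter G b)
      (hc : IsIrrCharacter G c) (hd : IsIrrCharacter G d) : classInner (a - b) (c - d) =
      (if a = c then 1 else 0) - (if a = d then 1 else 0) - (if b = c then 1 else 0) +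
        (if b = d then 1 else 0) := by
    rw [classInner_sub_left, classInner_sub_right, classInner_sub_right, irr_inner ha hc,
      irr_inner ha hd, irr_inner hb hc, irr_inner hb hd]
    ring

namespace Hyp

variable {K : Subgroup G} {t s : G} (h : Hyp K t s)
include h

theorem theta_apply (l : K →* ℂˣ) (x : K) (hx : x ≠ 1) :
    theta K l x = 2 - l x - (l x⁻¹ : ℂˣ) := by
  rw [theta, h.ind_apply _ x hx]
  simp only [Pi.sub_apply]
  ring

open Classical in
theorem inner_theta {l m : K →* ℂˣ} (hl : l ≠ 1) (hm : m ≠ 1) :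
    classInner (theta K l) (theta K m) =
      ((2 + (if l = m then 1 else 0) + (if l = m⁻¹ then 1 else 0) : ℤ) : ℂ) := by
  have := Fintype.ofFinite K
  have e : (fun x : K => (((fun _ => (1 : ℂ)) - fun x => (m x : ℂ)) : K → ℂ) x⁻¹) =
      (fun _ => (1 : ℂ)) - fun x => (m⁻¹ x : ℂ) := by
    ext x; simp
  rw [theta, theta, h.inner_ind (by simp), e, inner_one_sub hl hm,
    inner_one_sub hl (lin_inv_ne_one hm)]
  push_cast
  ring

/-- The values on `K#` are determined by the multiplicities in the `θ λ`. -/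
theorem apply_eq [Fintype (K →* ℂˣ)] {χ : G → ℂ} (hχ : IsClassFunction G χ) (x : K)
    (hx : x ≠ 1) : χ x = -∑ l : K →* ℂˣ, classInner χ (theta K l) * l x := by
  classical
  have := Fintype.ofFinite K
  have hc : ∀ a b : K, a * b = b * a := fun a b => Subtype.ext (h.comm _ a.2 _ b.2)
  have h1 := congrFun (eq_sum_linear_of_comm hc (fun y : K => χ y)) x
  have h2 := sum_over_linear_of_comm hc x
  rw [if_neg hx] at h2
  simp only [Finset.sum_apply, Pi.smul_apply, smul_eq_mul] at h1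
  simp only [theta, classInner_indFun_right K _ hχ, classInner_sub_right, sub_mul,
    Finset.sum_sub_distrib, ← Finset.mul_sum, h2, mul_zero, zero_sub, neg_neg]
  exact h1

theorem exists_dat {μ l : K →* ℂˣ} (hμ : μ ≠ 1) (hμ' : μ⁻¹ = μ) (hl : l⁻¹ ≠ l) :
    ∃ δ S R, Dat K μ l δ S R := by
  classical
  have hl1 : l ≠ 1 := by rintro rfl; exact hl lin_inv_one
  have hlμ : μ ≠ l := by rintro rfl; exact hl hμ'
  have hlμ' : μ ≠ l⁻¹ := by
    intro e
    apply hlμ
    rw [← hμ', e, lin_inv_inv]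
  obtain ⟨Y, X, hY, hX, hY1, hX1, hne, he⟩ := CL.BS.gen_norm_three (gen_neg (gen_theta K l))
    (by rw [classInner_neg_left, classInner_neg_right, neg_neg, h.inner_theta hl1 hl1, if_pos rfl,
      if_neg hl.symm]; norm_num)
    (by rw [classInner_neg_left, inner_theta_one K hl1]) (by simp [theta_one])
  have he' : theta K l = (fun _ => 1) + (X - Y) := by
    ext g
    have := he g
    simp only [Pi.neg_apply, Pi.add_apply, Pi.sub_apply] at this ⊢
    linear_combination -this
  obtain ⟨a, ha⟩ := gen_inner_int (gen_theta K μ) (gen_of_irr hX)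
  obtain ⟨b, hb⟩ := gen_inner_int (gen_theta K μ) (gen_of_irr hY)
  have h1 := h.inner_theta hμ hl1
  rw [he', classInner_add_right, classInner_sub_right, inner_theta_one K hμ, ha, hb, if_neg hlμ,
    if_neg hlμ'] at h1
  have h1' : 1 + (a - b) = 2 + 0 + 0 := by exact_mod_cast h1
  have h2 := sum_norm_sq_inner_le (gen_isClassFunction (gen_theta K μ))
    {irrOne G, ⟨X, hX⟩, ⟨Y, hY⟩}
  have n1 : irrOne G ≠ ⟨X, hX⟩ := fun e => hX1 (congrArg Subtype.val e).symm
  have n2 : irrOne G ≠ ⟨Y, hY⟩ := fun e => hY1 (congrArg Subtype.val e).symm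
  have n3 : (⟨X, hX⟩ : IrrCharacter G) ≠ ⟨Y, hY⟩ := fun e => hne (congrArg Subtype.val e).symm
  rw [Finset.sum_insert (by simp [n1, n2]), Finset.sum_pair n3, h.inner_theta hμ hμ, if_pos rfl,
    if_pos hμ'.symm] at h2
  have e1 : classInner (theta K μ) (irrOne G : G → ℂ) = 1 := inner_theta_one K hμ
  simp only [e1, ha, hb, norm_one, Complex.norm_intCast, sq_abs, Complex.intCast_re] at h2
  have h2' : 1 ^ 2 + (a ^ 2 + b ^ 2) ≤ 2 + 1 + 1 := by exact_mod_cast h2
  have hb' : b = 0 ∨ b = -1 := by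
    have : a = b + 1 := by omega
    subst this
    have h3 : -2 < b := by nlinarith
    have h4 : b < 1 := by nlinarith
    omega
  rcases hb' with rfl | rfl
  · have : a = 1 := by omega
    subst this
    exact ⟨1, X, Y, Or.inl rfl, hX, hY, hX1, hY1, hne.symm, by simpa using he', ha,
      by simpa using hb⟩
  · have : a = 0 := by omega
    subst this
    exact ⟨-1, Y, X, Or.inr rfl, hY, hX, hY1, hX1, hne, by rw [he']; simp, hb, by simpa using ha⟩

theorem dat_compare {μ l l' : K →* ℂˣ} {δ δ' : ℤ} {S R S' R' : G → ℂ} (hl : l ≠ 1) (hl' : l' ≠ 1)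
    (d : Dat K μ l δ S R) (d' : Dat K μ l' δ' S' R') :
    δ = δ' ∧ (S = S' ∨ R = R') ∧ (l = l' ∨ l = l'⁻¹ → S = S') := by
  classical
  have h1 := d.inner d'
  rw [h.inner_theta hl hl', Int.cast_inj] at h1
  rcases d.sign with rfl | rfl <;> rcases d'.sign with rfl | rfl <;> split_ifs at h1 <;>
    simp_all

open Classical in
/-- The counting identity for the data of a non-real character. -/
theorem dat_count {μ l : K →* ℂˣ} {δ : ℤ} {S R : G → ℂ} (hl : l ≠ 1) (d : Dat K μ l δ S R) :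
    ((centralizer ({t} : Set G)).index : ℂ) *
      (1 + δ * (S t * S t / S 1 - R t * R t / R 1)) = 2 * (Nat.card K : ℂ) ^ 2 := by
  have := Fintype.ofFinite K
  have h1 := h.sum_pairs_ind (α := (fun _ => 1) - fun x => (l x : ℂ)) (by simp)
  have h2 : ∑ x : K, (((fun _ => (1 : ℂ)) - fun x => (l x : ℂ)) : K → ℂ) x = Nat.card K := by
    simp only [Pi.sub_apply, Finset.sum_sub_distrib, sum_linear_eq_zero hl]
    simp
  have a0 := CL.BS.irr_sum_class_mul_class (irr_one (G := G)) t t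
  have a1 := CL.BS.irr_sum_class_mul_class d.irrS t t
  have a2 := CL.BS.irr_sum_class_mul_class d.irrR t t
  rw [card_isConj_eq_index] at a0 a1 a2
  have h3 : ∑ u with IsConj t u, ∑ v with IsConj t v, theta K l (u * v) =
      ∑ u with IsConj t u, ∑ v with IsConj t v, (1 : ℂ) + δ *
        (∑ u with IsConj t u, ∑ v with IsConj t v, S (u * v) -
          ∑ u with IsConj t u, ∑ v with IsConj t v, R (u * v)) := by
    simp only [d.apply, Finset.sum_add_distrib, ← Finset.mul_sum, Finset.sum_sub_distrib]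
  rw [h2, h.card_eq] at h1
  rw [a0, a1, a2, theta, h1] at h3
  have hn : ((centralizer ({t} : Set G)).index : ℂ) ≠ 0 := Nat.cast_ne_zero.2 index_ne_zero_of_finite
  apply mul_left_cancel₀ hn
  push_cast at h3
  linear_combination -h3

/-- There is a common constituent of all the `θ λ`. -/
theorem exists_common (hk : 2 < Nat.card K) : ∃ (μ l : K →* ℂˣ) (δ : ℤ) (S R : G → ℂ),
    l ≠ 1 ∧ Dat K μ l δ S R ∧ ∀ m : K →* ℂˣ, m ≠ 1 → classInner S (theta K m) = δ := by
  classical
  have := Fintype.ofFinite (K →* ℂˣ)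
  have hc : ∀ a b : K, a * b = b * a := fun a b => Subtype.ext (h.comm _ a.2 _ b.2)
  obtain ⟨μ, hμ1, hμ2, hμ⟩ := h.exists_real
  obtain ⟨l₀, hl₀⟩ : ∃ l : K →* ℂˣ, l⁻¹ ≠ l := by
    by_contra hcon
    push Not at hcon
    have h1 : (Finset.univ : Finset (K →* ℂˣ)) ⊆ {1, μ} := fun l _ => by
      simpa using hμ l (hcon l)
    have h2 := (Finset.card_le_card h1).trans Finset.card_le_two
    rw [Finset.card_univ, ← Nat.card_eq_fintype_card, card_linear_of_comm hc] at h2
    omega
  have hne : ∀ l : K →* ℂˣ, l⁻¹ ≠ l → l ≠ 1 := by rintro l hl rfl; exact hl lin_inv_one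
  choose! δ S R hd using fun (l : K →* ℂˣ) (hl : l⁻¹ ≠ l) => h.exists_dat hμ1 hμ2 hl
  have hcmp := fun (l l' : K →* ℂˣ) (hl : l⁻¹ ≠ l) (hl' : l'⁻¹ ≠ l') =>
    h.dat_compare (hne l hl) (hne l' hl') (hd l hl) (hd l' hl')
  have d₀ := hd l₀ hl₀
  suffices hS : ∀ l : K →* ℂˣ, l⁻¹ ≠ l → S l = S l₀ by
    refine ⟨μ, l₀, δ l₀, S l₀, R l₀, hne _ hl₀, d₀, fun m hm => ?_⟩
    by_cases hr : m⁻¹ = m
    · rw [(hμ m hr).resolve_left hm, gen_inner_comm (gen_of_irr d₀.irrS) (gen_theta K μ), d₀.muS]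
    · rw [← hS m hr, (hd m hr).innerS, (hcmp m l₀ hr hl₀).1]
  intro l₁ hl₁
  by_contra hS₁
  have hR₁ : R l₁ = R l₀ := (hcmp l₁ l₀ hl₁ hl₀).2.1.resolve_left hS₁
  have hR : ∀ l : K →* ℂˣ, l⁻¹ ≠ l → R l = R l₀ := by
    intro l hl
    by_cases e : S l = S l₀
    · rw [← hR₁]
      exact (hcmp l l₁ hl hl₁).2.1.resolve_left fun e' => hS₁ (e'.symm.trans e)
    · exact (hcmp l l₀ hl hl₀).2.1.resolve_left e
  let τ : K := ⟨t, h.t_mem⟩
  have hτ : τ ≠ 1 := fun e => h.t_ne (congrArg Subtype.val e)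
  have hτ2 : τ * τ = 1 := Subtype.ext h.t_sq
  have hτi : τ⁻¹ = τ := inv_eq_of_mul_eq_one_right hτ2
  have hsq : ∀ l : K →* ℂˣ, (l τ : ℂ) * l τ = 1 := fun l => by
    rw [← Units.val_mul, ← map_mul, hτ2, map_one, Units.val_one]
  have hRt : R l₀ t = -(δ l₀ * (1 + μ τ)) := by
    have h1 := h.apply_eq (irr_isClassFunction d₀.irrR) τ hτ
    have h2 : ∀ m : K →* ℂˣ, classInner (R l₀) (theta K m) * m τ =
        -(δ l₀ : ℂ) * m τ + (if m = 1 then (δ l₀ : ℂ) * m τ else 0) +
          (if m = μ then (δ l₀ : ℂ) * m τ else 0) := by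
      intro m
      by_cases hr : m⁻¹ = m
      · rcases hμ m hr with rfl | rfl
        · rw [theta_trivial, classInner_zero_right, if_pos rfl, if_neg hμ1.symm]; ring
        · rw [gen_inner_comm (gen_of_irr d₀.irrR) (gen_theta K m), d₀.muR, if_neg hμ1, if_pos rfl]
          ring
      · rw [← hR m hr, (hd m hr).innerR, (hcmp m l₀ hr hl₀).1, if_neg (hne m hr),
          if_neg (fun e : m = μ => hr (e ▸ hμ2))]
        ring
    have h3 := sum_over_linear_of_comm hc τ
    rw [if_neg hτ] at h3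
    simp only [h2, Finset.sum_add_distrib, ← Finset.mul_sum, h3, Finset.sum_ite_eq',
      Finset.mem_univ, if_true] at h1
    rw [show t = (τ : G) from rfl, h1]
    simp only [MonoidHom.one_apply, Units.val_one]
    ring
  have hval : ∀ l : K →* ℂˣ, l⁻¹ ≠ l → S l t * S l t = 5 + 4 * l τ * μ τ ∧
      S l 1 = R l₀ 1 - δ l₀ := by
    intro l hl
    have d := hd l hl
    have h1 := d.apply τ
    have h2 := d.apply 1
    have h3 := d₀.sq
    rw [h.theta_apply l τ hτ, hτi, hR l hl, (hcmp l l₀ hl hl₀).1] at h1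
    rw [theta_one, hR l hl, (hcmp l l₀ hl hl₀).1] at h2
    change _ = 1 + _ * (S l t - R l₀ t) at h1
    rw [hRt] at h1
    have h4 : (δ l₀ : ℂ) * S l t = -2 * l τ - μ τ := by
      linear_combination -h1 - (1 + (μ τ : ℂ)) * h3
    constructor
    · linear_combination (-(S l t * S l t)) * h3 + (δ l₀ * S l t - 2 * l τ - μ τ) * h4 +
        4 * hsq l + hsq μ
    · linear_combination (-(δ l₀ : ℂ)) * h2 - (S l 1 - R l₀ 1) * h3
  have heq : ∀ l : K →* ℂˣ, l⁻¹ ≠ l → (l τ : ℂ) = l₀ τ := by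
    intro l hl
    have h1 := h.dat_count (hne l hl) (hd l hl)
    have h2 := h.dat_count (hne l₀ hl₀) d₀
    rw [hR l hl, (hcmp l l₀ hl hl₀).1, (hval l hl).1, (hval l hl).2, ← h2, (hval l₀ hl₀).1,
      (hval l₀ hl₀).2] at h1
    have hn : ((centralizer ({t} : Set G)).index : ℂ) ≠ 0 :=
      Nat.cast_ne_zero.2 index_ne_zero_of_finite
    have h3 := mul_left_cancel₀ hn h1
    have h4 : R l₀ 1 - δ l₀ ≠ 0 := by
      rw [← (hval l₀ hl₀).2]
      obtain ⟨m, hm, hm'⟩ := irr_apply_one d₀.irrS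
      rw [hm']
      exact Nat.cast_ne_zero.2 hm.ne'
    have h5 : (δ l₀ : ℂ) ≠ 0 := left_ne_zero_of_mul_eq_one d₀.sq
    have h6 := (div_left_inj' h4).1 (sub_left_inj.1 (mul_left_cancel₀ h5 (add_left_cancel h3)))
    have h7 : (μ τ : ℂ) ≠ 0 := Units.ne_zero _
    apply mul_right_cancel₀ h7
    linear_combination h6 / 4
  obtain ⟨ν, hν⟩ := exists_linear_apply_ne_one_of_comm hc hτ
  have hreal : ∀ l : K →* ℂˣ, l⁻¹ ≠ l → l * ν = 1 ∨ l * ν = μ := by
    intro l hl
    apply hμ
    by_contra hcon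
    have h1 := heq _ hcon
    rw [MonoidHom.mul_apply, Units.val_mul, heq l hl, mul_eq_left₀ (Units.ne_zero _)] at h1
    exact hν (Units.ext h1)
  have hl₀' : l₀⁻¹⁻¹ ≠ l₀⁻¹ := by rw [lin_inv_inv]; exact hl₀.symm
  have n1 : l₁ ≠ l₀ := fun e => hS₁ ((hcmp l₁ l₀ hl₁ hl₀).2.2 (Or.inl e))
  have n2 : l₁ ≠ l₀⁻¹ := fun e => hS₁ ((hcmp l₁ l₀ hl₁ hl₀).2.2 (Or.inr e))
  rcases hreal l₀ hl₀ with a | a <;> rcases hreal _ hl₀' with b | b <;>
    rcases hreal l₁ hl₁ with c | c <;>
    first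
    | exact hl₀ (lin_mul_cancel (b.trans a.symm))
    | exact n1 (lin_mul_cancel (c.trans a.symm))
    | exact n2 (lin_mul_cancel (c.trans b.symm))

/-- The Steinberg character and the order of the group. -/
theorem exists_steinberg (hk : 2 < Nat.card K) : ∃ (δ : ℤ) (q w : ℕ) (S R : G → ℂ),
    (δ = 1 ∨ δ = -1) ∧ IsIrrCharacter G S ∧ IsIrrCharacter G R ∧ (S ≠ fun _ => 1) ∧
    S 1 = q ∧ R 1 = (2 * w : ℕ) ∧ (q : ℤ) = 2 * Nat.card K + δ ∧ (w : ℤ) = Nat.card K + δ ∧
    Nat.card G = 2 * Nat.card K * (q * w) ∧ (∀ x ∈ K, x ≠ 1 → S x = δ) ∧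
    ∀ x : G, (∀ g : G, g * x * g⁻¹ ∉ K) → 1 + δ * (S x - R x) = 0 := by
  classical
  have := Fintype.ofFinite (K →* ℂˣ)
  have hc : ∀ a b : K, a * b = b * a := fun a b => Subtype.ext (h.comm _ a.2 _ b.2)
  obtain ⟨μ, l, δ, S, R, hl, d, hS⟩ := h.exists_common hk
  have hSK : ∀ x ∈ K, x ≠ 1 → S x = δ := by
    intro x hx hx1
    have hx1' : (⟨x, hx⟩ : K) ≠ 1 := fun e => hx1 (congrArg Subtype.val e)
    have h1 := h.apply_eq (irr_isClassFunction d.irrS) ⟨x, hx⟩ hx1'
    have h2 : ∀ m : K →* ℂˣ, classInner S (theta K m) * m ⟨x, hx⟩ =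
        (δ : ℂ) * m ⟨x, hx⟩ - (if m = 1 then (δ : ℂ) * m ⟨x, hx⟩ else 0) := by
      intro m
      by_cases hm : m = 1
      · rw [if_pos hm, hm, theta_trivial, classInner_zero_right]; ring
      · rw [if_neg hm, hS m hm, sub_zero]
    have h3 := sum_over_linear_of_comm hc ⟨x, hx⟩
    rw [if_neg hx1'] at h3
    simp only [h2, Finset.sum_sub_distrib, ← Finset.mul_sum, h3, Finset.sum_ite_eq',
      Finset.mem_univ, if_true] at h1
    rw [h1]
    simp
  obtain ⟨q, hq0, hq⟩ := irr_apply_one d.irrS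
  obtain ⟨r, hr0, hr⟩ := irr_apply_one d.irrR
  have hδ := d.sq
  have hδ' : δ * δ = 1 := by exact_mod_cast hδ
  have hrq : (r : ℤ) = q + δ := by
    have h2 := d.apply 1
    rw [theta_one, hq, hr] at h2
    have h3 : (r : ℂ) = q + δ := by linear_combination (δ : ℂ) * h2 - ((r : ℂ) - q) * hδ
    exact_mod_cast h3
  let τ : K := ⟨t, h.t_mem⟩
  have hτ : τ ≠ 1 := fun e => h.t_ne (congrArg Subtype.val e)
  have hτ2 : τ * τ = 1 := Subtype.ext h.t_sq
  have hτi : τ⁻¹ = τ := inv_eq_of_mul_eq_one_right hτ2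
  have hsq : (l τ : ℂ) * l τ = 1 := by
    rw [← Units.val_mul, ← map_mul, hτ2, map_one, Units.val_one]
  have hSt := hSK t h.t_mem h.t_ne
  have hRt : R t * R t = 4 := by
    have h1 := d.apply τ
    rw [h.theta_apply l τ hτ, hτi] at h1
    change _ = 1 + _ * (S t - R t) at h1
    rw [hSt] at h1
    have h4 : (δ : ℂ) * R t = 2 * l τ := by linear_combination h1 + hδ
    linear_combination (-(R t * R t)) * hδ + (δ * R t + 2 * l τ) * h4 + 4 * hsq
  set n := (centralizer ({t} : Set G)).index with hn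
  set k := Nat.card K with hk'
  have hcount : (n : ℤ) * (q - δ) ^ 2 = 2 * k ^ 2 * q * r := by
    have h1 := h.dat_count hl d
    rw [hSt, hRt, hq, hr, hδ] at h1
    have hq' : (q : ℂ) ≠ 0 := Nat.cast_ne_zero.2 hq0.ne'
    have hr' : (r : ℂ) ≠ 0 := Nat.cast_ne_zero.2 hr0.ne'
    have hrq' : (r : ℂ) = q + δ := by exact_mod_cast hrq
    have h2 : (n : ℂ) * (q - δ) ^ 2 = 2 * k ^ 2 * q * r := by
      rw [← h1]
      field_simp
      rw [hrq']
      ring
    exact_mod_cast h2
  -- `2k ∣ q - δ`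
  obtain ⟨c, hc⟩ : (2 * k : ℤ) ∣ q - δ := by
    let H := centralizer ({t} : Set G)
    have := Fintype.ofFinite H
    obtain ⟨m, hm⟩ := char_inner_nat (char_restrict (irr_isCharacter d.irrS) H) char_one
    have h1 : ∑ x : H, S x = ∑ x : H, ((δ : ℂ) + if x = 1 then (q : ℂ) - δ else 0) := by
      refine Finset.sum_congr rfl fun x _ => ?_
      by_cases hx : x = 1
      · rw [if_pos hx, hx, OneMemClass.coe_one, hq]; ring
      · rw [if_neg hx, add_zero]
        rcases h.mem_centralizer_iff.1 x.2 with h1 | h1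
        · exact hSK _ h1 fun e => hx (Subtype.ext e)
        · rw [← classFun_eq_of_isConj (irr_isClassFunction d.irrS) (h.one_class _ (h.outer_ord h1)),
            hSt]
    rw [classInner_one_right, h1, Finset.sum_add_distrib, Finset.sum_ite_eq', Finset.sum_const,
      Finset.card_univ, ← Nat.card_eq_fintype_card, inv_mul_eq_iff_eq_mul₀ (natCard_cast_ne_zero H),
      h.card_centralizer] at hm
    refine ⟨m - δ, ?_⟩
    have h2 : (q : ℂ) - δ = 2 * k * (m - δ) := by
      simp only [Finset.mem_univ, if_true, nsmul_eq_mul] at hm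
      push_cast at hm
      linear_combination hm
    exact_mod_cast h2
  have hk0 : (0 : ℤ) < k := by omega
  have h1 : (n : ℤ) * c ^ 2 = q * (k * c + δ) := by
    have h2 : (4 * k ^ 2 : ℤ) ≠ 0 := by positivity
    apply mul_left_cancel₀ h2
    rw [hc, hrq] at hcount
    linear_combination hcount + 2 * k ^ 2 * q * hc
  have hcop : IsCoprime c (q * (k * c + δ)) := by
    refine IsCoprime.mul_right ⟨-2 * k * δ, δ, ?_⟩ ⟨-k * δ, δ, ?_⟩
    · linear_combination δ * hc + hδ'
    · linear_combination hδ'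
  have hu : IsUnit c := hcop.isUnit_of_dvd' dvd_rfl (h1 ▸ ⟨n * c, by ring⟩)
  have hc1 : c = 1 := by
    rcases Int.isUnit_iff.1 hu with e | e
    · exact e
    · exfalso
      rw [e] at hc
      rcases d.sign with rfl | rfl <;> omega
  subst hc1
  obtain ⟨w, hw⟩ : ∃ w : ℕ, (w : ℤ) = k + δ :=
    ⟨(k + δ).toNat, Int.toNat_of_nonneg (by rcases d.sign with rfl | rfl <;> omega)⟩
  refine ⟨δ, q, w, S, R, d.sign, d.irrS, d.irrR, d.neS, hq, ?_, by omega, hw, ?_, hSK,
    fun x hx => by rw [← d.apply, theta_eq_zero K l hx]⟩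
  · rw [hr]
    congr 1
    omega
  · rw [h.card_eq, ← hn, ← hk']
    congr 1
    have : (n : ℤ) = q * w := by rw [hw]; linear_combination h1
    exact_mod_cast this

end Hyp

end CL.BSW
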