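import Cfsg.Agent.Base
import Cfsg.Agent.GW.BSWChar
import Cfsg.Agent.Char.DefectZero
import Cfsg.Agent.Solv.CoreFree
import Cfsg.Agent.Transfer.ThompsonCompl
import Cfsg.Agent.Lin.SL2

/-!
# Brauer–Suzuki–Wall: the abelian Sylow subgroup of order `q`
-/

set_option autoImplicit false
set_option linter.unusedSectionVars false

open Cfsg CL.Char Subgroup
open scoped Pointwise MatrixGroups

namespace CL.BSW

variable {G : Type*} [Group G]

theorem exists_conj_mem_of_not_dvd_index [Finite G] {p : ℕ} [Fact p.Prime] {Q V : Subgroup G}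
    (hQ : IsPGroup p Q) (h : ¬ p ∣ V.index) : ∃ g : G, ∀ x ∈ Q, g * x * g⁻¹ ∈ V := by
  obtain ⟨g, hg⟩ := CL.CF.exists_le_conj_of_not_dvd_index Q V hQ h
  refine ⟨g⁻¹, fun x hx => ?_⟩
  have := hg hx
  rw [mem_pointwise_smul_iff_inv_smul_mem] at this
  simpa [mul_assoc] using this

/-- The character-theoretic output. -/
structure Stb (K : Subgroup G) (δ : ℤ) (q w : ℕ) (S R : G → ℂ) : Prop where
  sign : δ = 1 ∨ δ = -1
  irrS : IsIrrCharacter G S
  irrR : IsIrrCharacter G R
  neS : S ≠ fun _ => 1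
  degS : S 1 = q
  degR : R 1 = (2 * w : ℕ)
  hq : (q : ℤ) = 2 * Nat.card K + δ
  hw : (w : ℤ) = Nat.card K + δ
  card : Nat.card G = 2 * Nat.card K * (q * w)
  onK : ∀ x ∈ K, x ≠ 1 → S x = δ
  out : ∀ x : G, (∀ g : G, g * x * g⁻¹ ∉ K) → 1 + δ * (S x - R x) = 0

namespace Stb

variable {K : Subgroup G} {δ : ℤ} {q w : ℕ} {S R : G → ℂ} (d : Stb K δ q w S R)
include d

theorem sq : δ * δ = 1 := by rcases d.sign with rfl | rfl <;> norm_num

theorem cop_qk : q.Coprime (2 * Nat.card K) := by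
  rw [← Nat.isCoprime_iff_coprime]
  exact ⟨δ, -δ, by push_cast; linear_combination δ * d.hq + d.sq⟩

theorem cop_wk : w.Coprime (Nat.card K) := by
  rw [← Nat.isCoprime_iff_coprime]
  exact ⟨δ, -δ, by linear_combination δ * d.hw + d.sq⟩

theorem cop_qw : q.Coprime w := by
  rw [← Nat.isCoprime_iff_coprime]
  exact ⟨-δ, 2 * δ, by linear_combination (-δ) * d.hq + 2 * δ * d.hw + d.sq⟩

theorem sq_eq : q ^ 2 = 2 * (2 * Nat.card K * w) + 1 := by
  have : (q : ℤ) ^ 2 = 2 * (2 * Nat.card K * w) + 1 := by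
    rw [d.hq, d.hw]; linear_combination d.sq
  exact_mod_cast this

variable [Finite G]

theorem S_eq_zero {p : ℕ} (hp : p.Prime) (hq : p ∣ q) {x : G} (hx : p ∣ orderOf x) : S x = 0 := by
  have hq0 : 0 < q := by
    have := irr_deg_pos d.irrS
    rwa [deg_eq_of_apply_one d.degS] at this
  refine irr_eq_zero_of_defect_zero d.irrS hp ?_ hx
  rw [deg_eq_of_apply_one d.degS, d.card,
    show 2 * Nat.card K * (q * w) = q * (2 * Nat.card K * w) by ring,
    Nat.mul_div_cancel_left _ hq0]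
  exact fun h => hp.one_lt.ne'
    (Nat.eq_one_of_dvd_coprimes (Nat.Coprime.mul_right d.cop_qk d.cop_qw) hq h)

theorem R_eq_zero {p : ℕ} (hp : p.Prime) (hw : p ∣ w) {x : G} (hx : p ∣ orderOf x) : R x = 0 := by
  have hw0 : 0 < 2 * w := by
    have := irr_deg_pos d.irrR
    rwa [deg_eq_of_apply_one d.degR] at this
  refine irr_eq_zero_of_defect_zero d.irrR hp ?_ hx
  rw [deg_eq_of_apply_one d.degR, d.card,
    show 2 * Nat.card K * (q * w) = (2 * w) * (Nat.card K * q) by ring,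
    Nat.mul_div_cancel_left _ hw0]
  exact fun h => hp.one_lt.ne'
    (Nat.eq_one_of_dvd_coprimes (Nat.Coprime.mul_right d.cop_wk d.cop_qw.symm) hw h)

omit d in
theorem out_of_dvd {p : ℕ} {x : G} (hx : p ∣ orderOf x) (hk : ¬ p ∣ Nat.card K) (g : G) :
    g * x * g⁻¹ ∉ K := fun h => hk (by
  rw [← CL.Invol.orderOf_conj g x, ← orderOf_mk _ h] at hx
  exact hx.trans (orderOf_dvd_natCard _))

theorem not_dvd_of_dvd_q {p : ℕ} (hp : p.Prime) (hq : p ∣ q) : ¬ p ∣ Nat.card K := fun h =>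
  hp.one_lt.ne' (Nat.eq_one_of_dvd_coprimes d.cop_qk hq (h.mul_left 2))

theorem not_dvd_of_dvd_w {p : ℕ} (hp : p.Prime) (hw : p ∣ w) : ¬ p ∣ Nat.card K := fun h =>
  hp.one_lt.ne' (Nat.eq_one_of_dvd_coprimes d.cop_wk hw h)

theorem not_mixed {p r : ℕ} (hp : p.Prime) (hr : r.Prime) (hq : p ∣ q) (hw : r ∣ w) {x : G}
    (hx : p ∣ orderOf x) (hx' : r ∣ orderOf x) : False := by
  have := d.out x (out_of_dvd hx (d.not_dvd_of_dvd_q hp hq))
  rw [d.S_eq_zero hp hq hx, d.R_eq_zero hr hw hx'] at this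
  simp at this

end Stb

namespace Hyp

variable [Finite G] {K : Subgroup G} {t s : G} (h : Hyp K t s) {δ : ℤ} {q w : ℕ} {S R : G → ℂ}
  (d : Stb K δ q w S R)
include h d

theorem cop_w : w.Coprime (2 * Nat.card K) :=
  Nat.Coprime.mul_right (d.cop_wk.coprime_dvd_right h.even_card) d.cop_wk

theorem index_K : K.index = 2 * (q * w) := by
  apply Nat.eq_of_mul_eq_mul_left (Nat.card_pos (α := K))
  rw [card_mul_index, d.card]; ring

theorem index_centralizer : (centralizer ({t} : Set G)).index = q * w := by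
  have := h.card_eq
  rw [d.card] at this
  exact (Nat.eq_of_mul_eq_mul_left (Nat.mul_pos two_pos Nat.card_pos) this).symm

theorem exists_conj_mem {r : ℕ} (hr : r.Prime) (hk : r ∣ Nat.card K) {y : G}
    (hy : orderOf y = r) : ∃ g : G, g * y * g⁻¹ ∈ K := by
  by_cases h2 : r = 2
  · obtain ⟨g, hg⟩ := isConj_iff.1 (h.one_class y (hy.trans h2)).symm
    exact ⟨g, hg ▸ h.t_mem⟩
  have : Fact r.Prime := ⟨hr⟩
  obtain ⟨g, hg⟩ := exists_conj_mem_of_not_dvd_index (p := r) (Q := zpowers y) (V := K)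
    (IsPGroup.of_card (n := 1) (by rw [Nat.card_zpowers, hy, pow_one])) (by
      rw [h.index_K d]
      intro h3
      rcases (Nat.Prime.dvd_mul hr).1 h3 with h4 | h4
      · exact h2 ((Nat.prime_dvd_prime_iff_eq hr Nat.prime_two).1 h4)
      rcases (Nat.Prime.dvd_mul hr).1 h4 with h5 | h5
      · exact d.not_dvd_of_dvd_q hr h5 hk
      · exact d.not_dvd_of_dvd_w hr h5 hk)
  exact ⟨g, hg y (mem_zpowers y)⟩

theorem coprime_centralizer {x : G} (hx : ∀ g : G, g * x * g⁻¹ ∉ K) :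
    (Nat.card (centralizer ({x} : Set G))).Coprime (2 * Nat.card K) := by
  refine Nat.Coprime.symm (Nat.coprime_of_dvd fun r hr h1 h2 => ?_)
  have hk : r ∣ Nat.card K := by
    rcases (Nat.Prime.dvd_mul hr).1 h1 with h4 | h4
    · rw [(Nat.prime_dvd_prime_iff_eq hr Nat.prime_two).1 h4]; exact h.even_card
    · exact h4
  have : Fact r.Prime := ⟨hr⟩
  obtain ⟨y, hy⟩ := exists_prime_orderOf_dvd_card' r h2
  have hy' : orderOf (y : G) = r := by rw [orderOf_coe, hy]
  obtain ⟨g, hg⟩ := h.exists_conj_mem d hr hk hy'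
  have hy1 : g * y * g⁻¹ ≠ 1 := fun e => hr.one_lt.ne' (by
    rw [← hy', ← CL.Invol.orderOf_conj g, e, orderOf_one])
  have hc : (y : G) * x = x * y := mem_centralizer_singleton_iff.1 y.2
  rcases h.of_commute (g := g * x * g⁻¹) hg hy1 (by
    calc g * x * g⁻¹ * (g * y * g⁻¹) = g * (x * y) * g⁻¹ := by group
      _ = g * y * g⁻¹ * (g * x * g⁻¹) := by rw [← hc]; group) with h3 | h3
  · exact hx g h3
  · obtain ⟨c, hc⟩ := isConj_iff.1 (h.one_class _ (h.outer_ord h3)).symm
    exact hx (c * g) (by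
      rw [show c * g * x * (c * g)⁻¹ = c * (g * x * g⁻¹) * c⁻¹ by group, hc]; exact h.t_mem)

theorem centralizer_dvd {x : G} (hx : ∀ g : G, g * x * g⁻¹ ∉ K) :
    Nat.card (centralizer ({x} : Set G)) ∣ q * w :=
  (h.coprime_centralizer d hx).dvd_of_dvd_mul_left (d.card ▸ card_subgroup_dvd_card _)

theorem centralizer_dvd_q {x : G} (hx1 : x ≠ 1) (hx : orderOf x ∣ q) :
    Nat.card (centralizer ({x} : Set G)) ∣ q := by
  obtain ⟨p, hp, hpx⟩ := Nat.exists_prime_and_dvd (fun e => hx1 (orderOf_eq_one_iff.1 e))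
  have hpq := hpx.trans hx
  refine Nat.Coprime.dvd_of_dvd_mul_right (Nat.coprime_of_dvd fun r hr h1 h2 => ?_)
    (h.centralizer_dvd d (Stb.out_of_dvd hpx (d.not_dvd_of_dvd_q hp hpq)))
  have : Fact r.Prime := ⟨hr⟩
  obtain ⟨y, hy⟩ := exists_prime_orderOf_dvd_card' r h1
  have hy' : orderOf (y : G) = r := by rw [orderOf_coe, hy]
  have hc : Commute x y := (mem_centralizer_singleton_iff.1 y.2).symm
  have ho := hc.orderOf_mul_eq_mul_orderOf_of_coprime
    (by rw [hy']; exact (d.cop_qw.coprime_dvd_left hx).coprime_dvd_right h2)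
  exact d.not_mixed hp hr hpq h2 (x := x * y) (ho ▸ hpx.mul_right _)
    (by rw [ho, hy']; exact dvd_mul_left _ _)

open Classical in
theorem card_pi [Fintype G] :
    (Finset.univ.filter fun x : G => x ≠ 1 ∧ orderOf x ∣ q).card = 2 * (2 * Nat.card K * w) := by
  have := Fintype.ofFinite K
  let α : K → ℂ := fun x => if x = 1 then 0 else 1
  have hδ : (δ : ℂ) * δ = 1 := by exact_mod_cast d.sq
  have key : ∀ x : G, 1 + δ * S x - indFun K α x =
      (if x = 1 then 1 + δ * (q : ℂ) else 0) + if x ≠ 1 ∧ orderOf x ∣ q then 1 else 0 := by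
    intro x
    by_cases hx1 : x = 1
    · subst hx1
      rw [indFun_one, d.degS]
      simp [α]
    rw [if_neg hx1, zero_add]
    by_cases hx : ∀ g : G, g * x * g⁻¹ ∉ K
    · rw [indFun_eq_zero_of_not_conj K α hx, sub_zero]
      obtain ⟨p, hp, hpx⟩ := Nat.exists_prime_and_dvd (fun e => hx1 (orderOf_eq_one_iff.1 e))
      by_cases hq : orderOf x ∣ q
      · rw [if_pos ⟨hx1, hq⟩, d.S_eq_zero hp (hpx.trans hq) hpx]; simp
      · rw [if_neg fun e => hq e.2]
        have h1 : orderOf x ∣ q * w := by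
          refine Dvd.dvd.trans ?_ (h.centralizer_dvd d hx)
          rw [← orderOf_mk x (mem_centralizer_singleton_iff.2 rfl)]
          exact orderOf_dvd_natCard _
        obtain ⟨r, hr, h2, h3⟩ := Nat.Prime.not_coprime_iff_dvd.1
          fun e : (orderOf x).Coprime w => hq (e.dvd_of_dvd_mul_right h1)
        have := d.out x hx
        rwa [d.R_eq_zero hr h3 h2, sub_zero] at this
    · push Not at hx
      obtain ⟨g, hg⟩ := hx
      have hg1 : (⟨_, hg⟩ : K) ≠ 1 := fun e => hx1 (by simpa using congrArg Subtype.val e)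
      have h1 := h.ind_apply α ⟨_, hg⟩ hg1
      have h2 := d.onK _ hg fun e => hg1 (Subtype.ext e)
      rw [irr_isClassFunction d.irrS x g] at h2
      rw [indFun_isClassFunction K α x g] at h1
      simp only [α, if_neg hg1, if_neg (inv_ne_one.2 hg1)] at h1
      rw [h1, h2, hδ, if_neg]
      · ring
      · rintro ⟨-, hq⟩
        obtain ⟨p, hp, hpx⟩ := Nat.exists_prime_and_dvd (fun e => hx1 (orderOf_eq_one_iff.1 e))
        exact Stb.out_of_dvd hpx (d.not_dvd_of_dvd_q hp (hpx.trans hq)) g hg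
  have h1 := Finset.sum_congr rfl fun x (_ : x ∈ Finset.univ) => key x
  have h2 := sum_indFun_mul K α (isClassFunction_const 1)
  have h3 : ∑ x : K, α x * 1 = (Nat.card K : ℂ) - 1 := by
    have : ∀ x : K, α x * 1 = 1 - if x = 1 then 1 else 0 := fun x => by
      simp only [α]; split_ifs <;> simp
    simp only [this, Finset.sum_sub_distrib, Finset.sum_ite_eq']
    simp
  simp only [mul_one] at h2 h3
  rw [h3, inv_mul_eq_iff_eq_mul₀ (natCard_cast_ne_zero G), d.card] at h2
  rw [Finset.sum_sub_distrib, Finset.sum_add_distrib, ← Finset.mul_sum,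
    irr_sum_eq_zero d.irrS d.neS, h2, Finset.sum_add_distrib, Finset.sum_ite_eq',
    Finset.sum_boole, Finset.sum_const, Finset.card_univ, ← Nat.card_eq_fintype_card, d.card] at h1
  have hk := natCard_cast_ne_zero K
  have h4 : (q : ℂ) ^ 2 = 2 * (2 * Nat.card K * w) + 1 := by exact_mod_cast d.sq_eq
  have h5 : (q : ℂ) = 2 * Nat.card K + δ := by exact_mod_cast d.hq
  have h6 : (w : ℂ) = Nat.card K + δ := by exact_mod_cast d.hw
  have h7 : ((Finset.univ.filter fun x : G => x ≠ 1 ∧ orderOf x ∣ q).card : ℂ) =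
      2 * (2 * Nat.card K * w) := by
    simp only [Finset.mem_univ, if_true, nsmul_eq_mul] at h1
    push_cast at h1
    field_simp at h1
    linear_combination -h1 + h4 - q * h5 + 2 * q * h6
  exact_mod_cast h7

open Classical in
theorem card_class [Fintype G] (x : G) :
    (Finset.univ.filter fun y : G => IsConj x y).card = (centralizer ({x} : Set G)).index := by
  rw [← card_isConj_eq_index, Nat.card_eq_fintype_card, Fintype.card_subtype]

theorem card_centralizer_eq_q {x : G} (hx1 : x ≠ 1) (hx : orderOf x ∣ q) :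
    Nat.card (centralizer ({x} : Set G)) = q := by
  classical
  have := Fintype.ofFinite G
  obtain ⟨m, hm⟩ := h.centralizer_dvd_q d hx1 hx
  have h1 : (centralizer ({x} : Set G)).index = 2 * Nat.card K * w * m := by
    apply Nat.eq_of_mul_eq_mul_left (Nat.card_pos (α := centralizer ({x} : Set G)))
    rw [card_mul_index, d.card, hm]; ring
  have h2 : (Finset.univ.filter fun y : G => IsConj x y).card ≤
      (Finset.univ.filter fun x : G => x ≠ 1 ∧ orderOf x ∣ q).card := by
    refine Finset.card_le_card fun y hy => ?_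
    simp only [Finset.mem_filter, Finset.mem_univ, true_and] at hy ⊢
    exact ⟨fun e => hx1 (isConj_one_left.1 (e ▸ hy)), CL.Invol.IsConj.orderOf_eq' hy ▸ hx⟩
  rw [h.card_class d, h1, h.card_pi d] at h2
  have h3 : 0 < 2 * Nat.card K * w := by
    have := Nat.card_pos (α := G)
    rw [d.card] at this
    exact Nat.pos_of_ne_zero fun e => this.ne' (by
      rw [show 2 * Nat.card K * (q * w) = q * (2 * Nat.card K * w) by ring, e, mul_zero])
  have h4 : m ≤ 2 := by nlinarith
  have h5 : Odd m := by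
    have : q.Coprime 2 := d.cop_qk.coprime_dvd_right (dvd_mul_right _ _)
    exact (Nat.coprime_two_right.1 this).of_dvd_nat ⟨_, by rw [hm, mul_comm]⟩
  have h6 : m = 1 := by obtain ⟨c, hc⟩ := h5; omega
  rw [hm, h6, mul_one]

theorem index_centralizer_eq {x : G} (hx1 : x ≠ 1) (hx : orderOf x ∣ q) :
    (centralizer ({x} : Set G)).index = 2 * Nat.card K * w := by
  apply Nat.eq_of_mul_eq_mul_left (Nat.card_pos (α := centralizer ({x} : Set G)))
  rw [card_mul_index, d.card, h.card_centralizer_eq_q d hx1 hx]; ring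

theorem prime_eq {p r : ℕ} (hp : p.Prime) (hr : r.Prime) (hpq : p ∣ q) (hrq : r ∣ q) : p = r := by
  classical
  have := Fintype.ofFinite G
  by_contra hne
  have : Fact p.Prime := ⟨hp⟩
  have : Fact r.Prime := ⟨hr⟩
  obtain ⟨x, hx⟩ := exists_prime_orderOf_dvd_card' (G := G) p
    (by rw [d.card]; exact (hpq.mul_right w).mul_left _)
  have hne1 : ∀ {z : G} {m : ℕ}, orderOf z = m → 1 < m → z ≠ 1 := by
    rintro z m hz hm rfl
    rw [orderOf_one] at hz
    omega
  have hC := h.card_centralizer_eq_q d (hne1 hx hp.one_lt) (hx ▸ hpq)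
  obtain ⟨y, hy⟩ := exists_prime_orderOf_dvd_card' (G := centralizer ({x} : Set G)) r (hC ▸ hrq)
  have hy' : orderOf (y : G) = r := by rw [orderOf_coe, hy]
  have hc : Commute x y := (mem_centralizer_singleton_iff.1 y.2).symm
  have hcop := (Nat.coprime_primes hp hr).2 hne
  have ho := hc.orderOf_mul_eq_mul_orderOf_of_coprime (by rwa [hx, hy'])
  rw [hx, hy'] at ho
  have hpr : 1 < p * r := Nat.one_lt_mul_iff.2 ⟨hp.pos, hr.pos, Or.inl hp.one_lt⟩
  have hsub : ∀ {z : G} {m : ℕ}, orderOf z = m → 1 < m → m ∣ q →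
      (Finset.univ.filter fun y : G => IsConj z y) ⊆
        (Finset.univ.filter fun x : G => x ≠ 1 ∧ orderOf x ∣ q) := by
    intro z m hz hm hq u hu
    simp only [Finset.mem_filter, Finset.mem_univ, true_and] at hu ⊢
    have := (CL.Invol.IsConj.orderOf_eq' hu).symm.trans hz
    exact ⟨hne1 this hm, this ▸ hq⟩
  have hdis : ∀ {z z' : G}, orderOf z ≠ orderOf z' →
      Disjoint (Finset.univ.filter fun y : G => IsConj z y)
        (Finset.univ.filter fun y : G => IsConj z' y) := by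
    intro z z' hz
    rw [Finset.disjoint_filter]
    exact fun u _ h1 h2 => hz (CL.Invol.IsConj.orderOf_eq' (h1.trans h2.symm))
  have hprq := hcop.mul_dvd_of_dvd_of_dvd hpq hrq
  have h1 := Finset.card_le_card (Finset.union_subset (Finset.union_subset (hsub hx hp.one_lt hpq)
    (hsub hy' hr.one_lt hrq)) (hsub ho hpr hprq))
  have n1 : p ≠ p * r := fun e => hr.one_lt.ne' ((left_eq_mul₀ hp.ne_zero).1 e)
  have n2 : r ≠ p * r := fun e => hp.one_lt.ne' ((right_eq_mul₀ hr.ne_zero).1 e)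
  rw [Finset.card_union_of_disjoint (Finset.disjoint_union_left.2
      ⟨hdis (by rwa [hx, ho]), hdis (by rwa [hy', ho])⟩),
    Finset.card_union_of_disjoint (hdis (by rwa [hx, hy'])), h.card_class d, h.card_class d,
    h.card_class d, h.index_centralizer_eq d (hne1 hx hp.one_lt) (hx ▸ hpq),
    h.index_centralizer_eq d (hne1 hy' hr.one_lt) (hy' ▸ hrq),
    h.index_centralizer_eq d (hne1 ho hpr) (ho ▸ hprq), h.card_pi d] at h1
  have h3 : 0 < 2 * Nat.card K * w := by
    rw [← h.index_centralizer_eq d (hne1 hx hp.one_lt) (hx ▸ hpq)]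
    exact Nat.pos_of_ne_zero index_ne_zero_of_finite
  omega

theorem not_involves {p : ℕ} [Fact p.Prime] (hp2 : p ≠ 2) : ¬ Involves G SL(2, ZMod p) := by
  rintro ⟨L, f, hf⟩
  have : Fact (Nat.Prime 2) := ⟨Nat.prime_two⟩
  have hodd : Odd (Fintype.card (ZMod p)) := by
    rw [ZMod.card]; exact (Fact.out : p.Prime).odd_of_ne_two hp2
  have h2 := CL.Lin.two_ne_zero_of_odd_card hodd
  obtain ⟨a, b, ha, hb, hab, ⟨e⟩⟩ := CL.Lin.exists_quaternion_subgroup hodd
  have hQ : IsPGroup 2 (Subgroup.closure ({a, b} : Set SL(2, ZMod p))) :=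
    IsPGroup.of_card (n := 3) (by
      rw [Nat.card_congr e.toEquiv, Nat.card_eq_fintype_card, QuaternionGroup.card]; rfl)
  obtain ⟨T, hT⟩ := hQ.exists_le_sylow
  obtain ⟨U, hU⟩ := Sylow.mapSurjective_surjective hf 2 T
  obtain ⟨g, hg⟩ := exists_conj_mem_of_not_dvd_index (V := centralizer ({t} : Set G))
    (U.isPGroup'.map L.subtype) (by
      rw [h.index_centralizer d]
      intro h3
      have := Nat.eq_one_of_dvd_coprimes (Nat.Coprime.mul_left d.cop_qk (h.cop_w d)) h3
        (dvd_mul_right _ _)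
      omega)
  have key : ∀ c ∈ Subgroup.closure ({a, b} : Set SL(2, ZMod p)), c ^ 2 = -1 →
      ∃ c' : L, f c' = c ∧ g * c' * g⁻¹ ∈ K := by
    intro c hc hc2
    have h3 := hT hc
    rw [← hU] at h3
    obtain ⟨c', hc', rfl⟩ := h3
    refine ⟨c', rfl, (h.mem_centralizer_iff.1 (hg _ (mem_map_of_mem _ hc'))).resolve_right
      fun h4 => CL.Lin.SL_two_neg_one_ne_one h2 ?_⟩
    have h5 := h.outer_sq h4
    have h6 : c' * c' = 1 := Subtype.ext (by
      apply (MulAut.conj g).injective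
      rw [coe_mul, map_mul, OneMemClass.coe_one, map_one]
      exact h5)
    rw [← hc2, pow_two, ← map_mul, h6, map_one]
  obtain ⟨a', rfl, ha'⟩ := key a (Subgroup.subset_closure (by simp)) ha
  obtain ⟨b', rfl, hb'⟩ := key b (Subgroup.subset_closure (by simp)) hb
  have h3 : b' * a' = a' * b' := Subtype.ext (by
    apply (MulAut.conj g).injective
    rw [coe_mul, coe_mul, map_mul, map_mul]
    exact h.comm _ hb' _ ha')
  rw [← map_mul, ← map_mul, h3, ← neg_one_mul, right_eq_mul] at hab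
  exact CL.Lin.SL_two_neg_one_ne_one h2 hab

/-- The Sylow subgroup of order `q` is abelian and is the centralizer of each of its non-identity
elements. -/
theorem exists_sylow (hk : 2 < Nat.card K) : ∃ (p : ℕ) (_ : Fact p.Prime), p ≠ 2 ∧
    ∀ P : Sylow p G, Nat.card P = q ∧
      ∀ y ∈ (P : Subgroup G), y ≠ 1 → centralizer ({y} : Set G) = P := by
  have hq1 : q ≠ 1 := by have := d.hq; rcases d.sign with rfl | rfl <;> omega
  have hq0 : q ≠ 0 := by have := d.hq; rcases d.sign with rfl | rfl <;> omega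
  obtain ⟨p, hp, hpq⟩ := Nat.exists_prime_and_dvd hq1
  have : Fact p.Prime := ⟨hp⟩
  have hp2 : p ≠ 2 := by
    rintro rfl
    exact d.not_dvd_of_dvd_q hp hpq h.even_card
  obtain ⟨a, ha⟩ : ∃ a, q = p ^ a := ⟨_, Nat.eq_prime_pow_of_unique_prime_dvd hq0
    fun {r} hr hrq => h.prime_eq d hr hp hrq hpq⟩
  have hnd : ¬ p ∣ 2 * Nat.card K * w := fun h3 => hp.one_lt.ne'
    (Nat.eq_one_of_dvd_coprimes (Nat.Coprime.mul_right d.cop_qk d.cop_qw) hpq h3)
  have hsyl : ∀ y : G, y ≠ 1 → orderOf y ∣ q → ∃ Q : Sylow p G, centralizer ({y} : Set G) = Q :=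
    fun y hy1 hy => ⟨(IsPGroup.of_card ((h.card_centralizer_eq_q d hy1 hy).trans ha)).toSylow
      (by rwa [h.index_centralizer_eq d hy1 hy]), rfl⟩
  refine ⟨p, this, hp2, fun P => ?_⟩
  have hP : Nat.card P = q := by
    obtain ⟨x, hx⟩ := exists_prime_orderOf_dvd_card' (G := G) p
      (by rw [d.card]; exact (hpq.mul_right w).mul_left _)
    have hx1 : x ≠ 1 := by rintro rfl; rw [orderOf_one] at hx; exact hp.one_lt.ne hx
    obtain ⟨Q, hQ⟩ := hsyl x hx1 (hx ▸ hpq)
    rw [Nat.card_congr (P.equiv Q).toEquiv, ← hQ, h.card_centralizer_eq_q d hx1 (hx ▸ hpq)]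
  have hord : ∀ y ∈ (P : Subgroup G), orderOf y ∣ q := fun y hy => by
    rw [← orderOf_mk y hy, ← hP]; exact orderOf_dvd_natCard _
  have hZ : (P : Subgroup G) ≤ CL.ZJ.Z 0 (P : Subgroup G) := by
    intro y hy
    by_cases hy1 : y = 1
    · rw [hy1]; exact one_mem _
    obtain ⟨Q, hQ⟩ := hsyl y hy1 (hord y hy)
    obtain ⟨g, rfl⟩ := MulAction.exists_smul_eq G P Q
    have hmem : ∀ u : G, u * y = y * u ↔ g⁻¹ * u * g ∈ (P : Subgroup G) := fun u => by
      rw [← mem_centralizer_singleton_iff, hQ, Sylow.coe_subgroup_smul,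
        mem_pointwise_smul_iff_inv_smul_mem]
      simp [mul_assoc]
    have hz : g⁻¹ * y * g ∈ (P : Subgroup G) := (hmem y).1 rfl
    have hzZ : g⁻¹ * y * g ∈ CL.ZJ.Z 0 (P : Subgroup G) := by
      refine CL.ZJ.mem_ZJ_of_mem_centralizer hz (fun u hu => ?_) (pow_zero _)
      have := (hmem (g * u * g⁻¹)).2 (by simpa [mul_assoc] using CL.ZJ.J_le hu)
      calc u * (g⁻¹ * y * g) = g⁻¹ * (g * u * g⁻¹ * y) * g := by group
        _ = g⁻¹ * y * g * u := by rw [this]; group
    obtain ⟨n, hn, hn'⟩ := CL.Transfer.controlsStrong_normalizer_Z_of_sl2 hp2 (Or.inl rfl)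
      (h.not_involves d hp2) P (zpowers (g⁻¹ * y * g)) g (mem_top g) (zpowers_le.2 hz) (by
        rintro _ ⟨u, ⟨m, rfl⟩, rfl⟩
        change MulAut.conj g ((g⁻¹ * y * g) ^ m) ∈ _
        rw [map_zpow, MulAut.conj_apply, show g * (g⁻¹ * y * g) * g⁻¹ = y by group]
        exact zpow_mem hy m)
    have h3 := (mem_normalizer_iff.1 hn _).1 hzZ
    rw [hn' _ (mem_zpowers _)] at h3
    simpa [mul_assoc] using h3
  refine ⟨hP, fun y hy hy1 => (eq_of_le_of_card_ge (fun u hu => ?_) ?_).symm⟩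
  · have := CL.ZJ.ZJ_comm (e := 0) (T := (P : Subgroup G))
    exact mem_centralizer_singleton_iff.2 (setLike_mul_comm (hZ hu) (hZ hy))
  · rw [hP, h.card_centralizer_eq_q d hy1 (hord y hy)]

end Hyp

end CL.BSW
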