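import Cfsg.Agent.Base
import Cfsg.Agent.GW.BSWSylow
import Cfsg.Agent.Solv.FpfComplement
import Cfsg.Agent.Small.PSL2Rec4
import Cfsg.Agent.TwoFus.SEElem3
import Cfsg.Agent.S0494
import Cfsg.Agent.S0253
import Cfsg.Agent.S0251
import Cfsg.Agent.TwoFus.DihFus

/-!
# The Brauer–Suzuki–Wall theorem
-/

set_option autoImplicit false
set_option linter.unusedSectionVars false

open Cfsg Subgroup MulAction
open scoped Pointwise MatrixGroups

namespace CL.BSW

variable {G : Type*} [Group G]

/-- A simple group acts faithfully as soon as it moves a point. -/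
theorem faithful_of_simple [IsSimpleGroup G] {Ω : Type*} [MulAction G Ω] {α : Ω}
    (h : ∃ g : G, g • α ≠ α) : FaithfulSMul G Ω := by
  rcases (inferInstance : (toPermHom G Ω).ker.Normal).eq_bot_or_eq_top with h1 | h1
  · refine ⟨fun {a b} hab => (MonoidHom.ker_eq_bot_iff _).1 h1 (Equiv.ext hab)⟩
  · obtain ⟨g, hg⟩ := h
    have : g ∈ (toPermHom G Ω).ker := h1 ▸ mem_top g
    exact absurd (congrArg (fun σ : Equiv.Perm Ω => σ α) this) hg

theorem mem_of_smul_sylow [Finite G] {p : ℕ} [Fact p.Prime] {P Q : Sylow p G} {x : G}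
    (hx : x ∈ (P : Subgroup G)) (h : x • Q = Q) : x ∈ (Q : Subgroup G) := by
  have h1 := (P.isPGroup'.to_le (zpowers_le.2 hx)).inf_normalizer_sylow Q
  have h2 : x ∈ zpowers x ⊓ (Q : Subgroup G) :=
    h1.le ⟨mem_zpowers x, Sylow.smul_eq_iff_mem_normalizer.1 h⟩
  exact h2.2

namespace Hyp

variable [Finite G] {K : Subgroup G} {t s : G} (h : Hyp K t s)
include h

theorem not_comm [IsSimpleGroup G] : ¬ IsMulCommutative G := by
  intro hc
  rcases (K.normal_of_isMulCommutative).eq_bot_or_eq_top with h1 | h1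
  · exact h.t_ne (mem_bot.1 (h1 ▸ h.t_mem))
  · exact h.s_not (h1 ▸ mem_top s)

theorem psl2_of_stb [IsSimpleGroup G] {δ : ℤ} {q w : ℕ} {S R : G → ℂ} (d : Stb K δ q w S R)
    (hk : 2 < Nat.card K) : ∃ (F : Type) (_ : Field F) (_ : Fintype F), Fintype.card F = q ∧
      Nonempty (G ≃* PSL(2, F)) := by
  classical
  have := Fintype.ofFinite G
  obtain ⟨p, _, hp2, hS⟩ := h.exists_sylow d hk
  have hq5 : 5 ≤ q := by have := d.hq; rcases d.sign with rfl | rfl <;> omega
  have hti : ∀ (P Q : Sylow p G) (x : G), x ≠ 1 → x ∈ (P : Subgroup G) → x ∈ (Q : Subgroup G) →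
      P = Q := fun P Q x hx hP hQ => Sylow.ext (((hS P).2 x hP hx).symm.trans ((hS Q).2 x hQ hx))
  obtain ⟨α⟩ : Nonempty (Sylow p G) := inferInstance
  have hα : (α : Subgroup G) ≠ ⊥ := by
    intro e
    have := (hS α).1
    rw [e, card_bot] at this
    omega
  have hodd : Odd q := Nat.coprime_two_right.1 (d.cop_qk.coprime_dvd_right (dvd_mul_right _ _))
  have hmove : ∃ g : G, g • α ≠ α := by
    by_contra hcon
    push Not at hcon
    have hn : (α : Subgroup G).Normal := normalizer_eq_top_iff.1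
      (eq_top_iff.2 fun g _ => Sylow.smul_eq_iff_mem_normalizer.1 (hcon g))
    have h1 := (hS α).1
    rw [hn.eq_bot_or_eq_top.resolve_left hα, card_top, d.card] at h1
    exact (Nat.not_even_iff_odd.2 hodd) (h1 ▸ ((even_two.mul_right _).mul_right _))
  have := faithful_of_simple hmove
  obtain ⟨g₀, hg₀⟩ := hmove
  set β := g₀ • α with hβ
  have hreg : ∀ x ∈ (α : Subgroup G), x • β = β → x = 1 := fun x hx hxβ => by
    by_contra hx1
    exact hg₀ (hti _ _ x hx1 (mem_of_smul_sylow hx hxβ) hx)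
  have hPα : ∀ x ∈ (α : Subgroup G), x • α = α := fun x hx =>
    Sylow.smul_eq_iff_mem_normalizer.2 (le_normalizer hx)
  -- the number of Sylow subgroups
  have := Fintype.ofFinite (Sylow p G)
  have hle : Fintype.card (Sylow p G) ≤ q + 1 := by
    have h1 : (Finset.univ.biUnion fun Q : Sylow p G =>
        (Finset.univ.filter fun x : G => x ∈ (Q : Subgroup G)).erase 1) ⊆
        Finset.univ.filter fun x : G => x ≠ 1 ∧ orderOf x ∣ q := by
      intro x hx
      simp only [Finset.mem_biUnion, Finset.mem_erase, Finset.mem_filter, Finset.mem_univ,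
        true_and] at hx ⊢
      obtain ⟨Q, hx1, hx⟩ := hx
      refine ⟨hx1, ?_⟩
      rw [← orderOf_mk x hx, ← (hS Q).1]; exact orderOf_dvd_natCard _
    have h2 := Finset.card_le_card h1
    rw [Finset.card_biUnion (fun P _ Q _ hPQ => by
      rw [Function.onFun, Finset.disjoint_left]
      intro x hx hx'
      simp only [Finset.mem_erase, Finset.mem_filter, Finset.mem_univ, true_and] at hx hx'
      exact hPQ (hti _ _ x hx.1 hx.2 hx'.2)), h.card_pi d,
      Finset.sum_congr rfl (g := fun _ => q - 1) (fun Q _ => by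
        rw [Finset.card_erase_of_mem (by simp), ← (hS Q).1, Nat.card_eq_fintype_card,
          Fintype.card_subtype]), Finset.sum_const, Finset.card_univ, smul_eq_mul] at h2
    have h3 := d.sq_eq
    obtain ⟨m, rfl⟩ : ∃ m, q = m + 1 := ⟨q - 1, by omega⟩
    rw [Nat.add_sub_cancel] at h2
    apply Nat.le_of_mul_le_mul_right (c := m) _ (by omega)
    nlinarith
  let f : Option (α : Subgroup G) → Sylow p G := fun o => o.elim α fun x => (x : G) • β
  have hne : ∀ x : (α : Subgroup G), (x : G) • β ≠ α := fun x e =>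
    hg₀ (smul_left_cancel (x : G) (e.trans (hPα _ x.2).symm))
  have hf : Function.Injective f := by
    rintro (_ | x) (_ | y) e
    · rfl
    · exact absurd e.symm (hne y)
    · exact absurd e (hne x)
    · have e' : (x : G) • β = (y : G) • β := e
      have := hreg _ (mul_mem (inv_mem y.2) x.2) (by rw [mul_smul, e', inv_smul_smul])
      rw [Subtype.ext (inv_mul_eq_one.1 this)]
  have hcO : Nat.card (Option (α : Subgroup G)) = q + 1 := by rw [Finite.card_option, (hS α).1]
  have hcard : Nat.card (Sylow p G) = q + 1 := le_antisymm (by rwa [Nat.card_eq_fintype_card])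
    (hcO ▸ Nat.card_le_card_of_injective f hf)
  have hsurj : ∀ ω, ω ≠ α → ∃ x ∈ (α : Subgroup G), x • β = ω := by
    intro ω hω
    obtain ⟨_ | x, hx⟩ := ((Nat.bijective_iff_injective_and_card f).2 ⟨hf, hcO.trans hcard.symm⟩).2 ω
    · exact absurd hx.symm hω
    · exact ⟨x, x.2, hx⟩
  have hstab : 2 * Nat.card (stabilizer G α) = q * (q - 1) := by
    have h1 := card_mul_index (stabilizer G α)
    rw [index_stabilizer_of_transitive, hcard, d.card] at h1
    have h3 := d.sq_eq
    obtain ⟨m, rfl⟩ : ∃ m, q = m + 1 := ⟨q - 1, by omega⟩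
    rw [Nat.add_sub_cancel]
    apply Nat.eq_of_mul_eq_mul_right (m := m + 1 + 1) (by omega)
    nlinarith
  have hsemi : ∀ k : G, k • β = β → ∀ x ∈ (α : Subgroup G), k * x = x * k → k = 1 ∨ x = 1 := by
    intro k hk x hx hc
    by_cases hx1 : x = 1
    · exact Or.inr hx1
    · exact Or.inl (hreg k ((hS α).2 x hx hx1 ▸ mem_centralizer_singleton_iff.2 hc) hk)
  -- the two-point stabilizer
  let E : Subgroup G := stabilizer G α ⊓ stabilizer G β
  have hE : ∀ k, k ∈ E ↔ k • α = α ∧ k • β = β := fun k => Iff.rfl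
  have hEn : E ≤ normalizer ((α : Subgroup G) : Set G) := fun k hk =>
    Sylow.smul_eq_iff_mem_normalizer.1 hk.1
  have hEf : ∀ a ∈ E, a ≠ 1 → (α : Subgroup G) ⊓ centralizer {a} = ⊥ := fun a ha ha1 =>
    eq_bot_iff.2 fun x hx => mem_bot.2 ((hsemi a ha.2 x hx.1
      (mem_centralizer_singleton_iff.1 hx.2).symm).resolve_left ha1)
  have hEc : ∀ k ∈ E, ∀ l ∈ E, k * l = l * k := by
    by_cases hev : ∃ u ∈ E, orderOf u = 2
    · obtain ⟨u, hu, hu2⟩ := hev
      obtain ⟨g, hg⟩ := isConj_iff.1 (h.one_class u hu2).symm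
      have key : ∀ k ∈ E, g * k * g⁻¹ ∈ K := by
        intro k hk
        have h1 := CL.Frob.involution_commute_of_fpf hEn hEf hα hu hu2 hk
        rcases h.of_commute (g := g * k * g⁻¹) h.t_mem h.t_ne (by
          rw [← hg]
          calc g * k * g⁻¹ * (g * u * g⁻¹) = g * (k * u) * g⁻¹ := by group
            _ = _ := by rw [h1]; group) with h2 | h2
        · exact h2
        · have h3 := h.outer_ord h2
          rw [CL.Invol.orderOf_conj] at h3
          rw [CL.Frob.involution_unique_of_fpf hEn hEf hα hu hu2 hk h3, hg]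
          exact h.t_mem
      intro k hk l hl
      apply (MulAut.conj g).injective
      rw [map_mul, map_mul]
      exact h.comm _ (key k hk) _ (key l hl)
    · have hEo : ∀ k ∈ E, Odd (orderOf k) := by
        intro k hk
        by_contra hcon
        obtain ⟨m, hm⟩ := even_iff_two_dvd.1 (Nat.not_odd_iff_even.1 hcon)
        have hm0 : m ≠ 0 := by rintro rfl; exact (orderOf_pos k).ne' hm
        exact hev ⟨k ^ m, pow_mem hk m, by
          rw [orderOf_pow_of_dvd hm0 ⟨2, by rw [hm, mul_comm]⟩, hm,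
            Nat.mul_div_cancel _ (Nat.pos_of_ne_zero hm0)]⟩
      -- an involution interchanging the two points
      obtain ⟨x, hx, hxg⟩ := hsurj (g₀⁻¹ • α) (fun e => hg₀ (by rw [hβ, ← e, smul_inv_smul, e]))
      have a1 : (g₀ * x) • α = β := by rw [mul_smul, hPα x hx]
      have a2 : (g₀ * x) • β = α := by rw [mul_smul, hxg, smul_inv_smul]
      generalize g₀ * x = g at a1 a2
      have hg2 : g * g ∈ E := (hE _).2 ⟨by rw [mul_smul, a1, a2], by rw [mul_smul, a2, a1]⟩
      obtain ⟨m, hm⟩ := hEo _ hg2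
      have hum : g ^ (2 * m + 1) = (g * g) ^ m * g := by rw [pow_succ, pow_mul, pow_two]
      have b1 : g ^ (2 * m + 1) • α = β := by
        rw [hum, mul_smul, a1]; exact ((hE _).1 (pow_mem hg2 m)).2
      have b2 : g ^ (2 * m + 1) • β = α := by
        rw [hum, mul_smul, a2]; exact ((hE _).1 (pow_mem hg2 m)).1
      have b3 : g ^ (2 * m + 1) * g ^ (2 * m + 1) = 1 := by
        rw [← Commute.mul_pow (Commute.refl g), ← hm, pow_orderOf_eq_one]
      generalize g ^ (2 * m + 1) = u at b1 b2 b3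
      have hu1 : u ≠ 1 := by rintro rfl; rw [one_smul] at b1; exact hg₀ b1.symm
      have hu2 := CL.Invol.orderOf_two_of_mul_self hu1 b3
      have hui : u⁻¹ = u := inv_eq_of_mul_eq_one_right b3
      -- `|E|` divides `w` or `k`
      have hEcard : 2 * Nat.card E = q - 1 := by
        have h1 := card_mul_index (E.subgroupOf (stabilizer G α))
        have h2 : (E.subgroupOf (stabilizer G α)).index = q := by
          have e1 : E.subgroupOf (stabilizer G α) = stabilizer (stabilizer G α) β := by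
            ext y; simp [E, mem_subgroupOf, mem_stabilizer_iff]; rfl
          rw [e1, index_stabilizer]
          have e2 : orbit (stabilizer G α) β = {α}ᶜ := by
            ext ω
            constructor
            · rintro ⟨y, rfl⟩ e
              exact hg₀ (smul_left_cancel (y : G) (Eq.trans e y.2.symm))
            · intro hω
              obtain ⟨y, hy, rfl⟩ := hsurj ω hω
              exact ⟨⟨y, hPα y hy⟩, rfl⟩
          rw [e2, Set.ncard_compl, hcard, Set.ncard_singleton, Nat.add_sub_cancel]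
        rw [h2, Nat.card_congr (subgroupOfEquivOfLe (inf_le_left : E ≤ _)).toEquiv] at h1
        rw [← h1] at hstab
        apply Nat.eq_of_mul_eq_mul_left (show 0 < q by omega)
        rw [← hstab]; ring
      have hEw : Nat.card E = w := by
        have h1 := d.hq
        have h2 := d.hw
        rcases d.sign with rfl | rfl
        · exfalso
          have h3 : 2 ∣ Nat.card E := by
            rw [show Nat.card E = Nat.card K by omega]; exact h.even_card
          obtain ⟨v, hv⟩ := exists_prime_orderOf_dvd_card' 2 h3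
          exact hev ⟨v, v.2, by rw [orderOf_coe, hv]⟩
        · omega
      have hun : zpowers u ≤ normalizer (E : Set G) := by
        rw [zpowers_le, mem_normalizer_iff]
        intro y
        rw [hE, hE, hui, mul_smul, mul_smul, mul_smul, mul_smul, b1, b2, ← b2, ← b1,
          smul_left_cancel_iff, smul_left_cancel_iff, b1, b2, and_comm]
      have := CL.Frob.isMulCommutative_of_involution_of_fpf hun (fun a ha ha1 => by
        have hau : a = u := by
          rw [mem_zpowers_iff_mem_range_orderOf, hu2] at ha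
          simp only [Finset.mem_image, Finset.mem_range] at ha
          obtain ⟨i, hi, rfl⟩ := ha
          interval_cases i
          · simp at ha1
          · simp
        subst hau
        refine eq_bot_iff.2 fun y hy => mem_bot.2 ?_
        by_contra hy1
        obtain ⟨r, hr, hry⟩ := Nat.exists_prime_and_dvd (fun e => hy1 (orderOf_eq_one_iff.1 e))
        have h1 : r ∣ w := by
          rw [← hEw]
          refine hry.trans ?_
          rw [← orderOf_mk y hy.1]; exact orderOf_dvd_natCard _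
        have h2 := h.coprime_centralizer d (Stb.out_of_dvd hry (d.not_dvd_of_dvd_w hr h1))
        have h3 : 2 ∣ Nat.card (centralizer ({y} : Set G)) := by
          rw [← hu2, ← orderOf_mk a (mem_centralizer_singleton_iff.2
            (mem_centralizer_singleton_iff.1 hy.2).symm)]
          exact orderOf_dvd_natCard _
        have := Nat.eq_one_of_dvd_coprimes h2 h3 (dvd_mul_right _ _)
        omega) (mem_zpowers u) hu2
      exact fun k hk l hl => setLike_mul_comm hk hl
  obtain ⟨F, _, _, hF, e⟩ := CL.PSL2Rec.equiv_of_abelian_regular α β hg₀ (α : Subgroup G) hα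
    ((hS α).1 ▸ hodd) (fun x hx y hy => by
      by_cases hy1 : y = 1
      · rw [hy1, one_mul, mul_one]
      · exact mem_centralizer_singleton_iff.1 (((hS α).2 y hy hy1).symm ▸ hx)) hPα
    (fun g hg x hx => (mem_normalizer_iff.1 (Sylow.smul_eq_iff_mem_normalizer.1 hg) x).1 hx) hreg
    hsurj (fun k l h1 h2 h3 h4 => hEc k ⟨h1, h2⟩ l ⟨h3, h4⟩) (fun k _ hk => hsemi k hk)
    (by rw [(hS α).1]; exact hstab) ⟨g₀, hg₀⟩
    (Or.inl (CL.PSL2Rec.isPerfect_of_simple h.not_comm))
  exact ⟨F, inferInstance, inferInstance, hF.trans (hS α).1, e⟩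

theorem card_eq_sixty [IsSimpleGroup G] (hk : Nat.card K = 2) : Nat.card G = 60 := by
  classical
  have : Fact (Nat.Prime 2) := ⟨Nat.prime_two⟩
  have hK : ∀ x ∈ K, x * x = 1 := fun x hx => by
    have := pow_card_eq_one' (x := (⟨x, hx⟩ : K))
    rw [hk, pow_two] at this
    exact congrArg Subtype.val this
  have hC : ∀ x ∈ centralizer ({t} : Set G), x * x = 1 := fun x hx =>
    (h.mem_centralizer_iff.1 hx).elim (hK x) h.outer_sq
  have hC' : ∀ u : G, orderOf u = 2 → ∀ x ∈ centralizer ({u} : Set G), x * x = 1 := by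
    intro u hu x hx
    obtain ⟨g, rfl⟩ := isConj_iff.1 (h.one_class u hu)
    have := hC (g⁻¹ * x * g) (mem_centralizer_singleton_iff.2 (by
      calc g⁻¹ * x * g * t = g⁻¹ * (x * (g * t * g⁻¹)) * g := by group
        _ = _ := by rw [mem_centralizer_singleton_iff.1 hx]; group))
    calc x * x = g * (g⁻¹ * x * g * (g⁻¹ * x * g)) * g⁻¹ := by group
      _ = 1 := by rw [this]; group
  have h4 : Nat.card (centralizer ({t} : Set G)) = 4 := by rw [h.card_centralizer, hk]
  obtain ⟨T, hT⟩ := (IsPGroup.of_card (p := 2) (n := 2) h4).exists_le_sylow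
  have hs : s ∈ centralizer ({t} : Set G) :=
    h.mem_centralizer_iff.2 (Or.inr (by rw [h.s_sq]; exact K.one_mem))
  have ht : t ∈ centralizer ({t} : Set G) := h.le_centralizer h.t_mem
  have H : CL.SE.Elem.Hyp T := by
    refine ⟨fun hc => ?_, fun hn => ?_, fun u hu => ⟨⟨⟨fun a b => Subtype.ext ?_⟩⟩,
      fun c hc => by rw [pow_two]; exact hC' u hu c hc⟩⟩
    · obtain ⟨x, hx⟩ := hc.exists_generator
      have := CL.eq_of_mem_zpowers_of_sq (hx ⟨s, hT hs⟩) (hx ⟨t, hT ht⟩) (Subtype.ext h.s_sq)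
        (Subtype.ext h.t_sq) (fun e => h.s_not ((show s = 1 from congrArg Subtype.val e) ▸ K.one_mem))
        (fun e => h.t_ne (congrArg Subtype.val e))
      exact h.s_not ((show s = t from congrArg Subtype.val this) ▸ h.t_mem)
    · rcases hn.eq_bot_or_eq_top with h1 | h1
      · exact h.t_ne (mem_bot.1 (h1 ▸ hT ht))
      · have h2 : IsPGroup 2 G := (h1 ▸ T.isPGroup').of_equiv topEquiv
        have := h2.isNilpotent
        exact h.not_comm ⟨⟨IsSimpleGroup.comm_iff_isSolvable.2 inferInstance⟩⟩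
    · have h1 := hC' u hu _ (a * b).2
      have h2 := hC' u hu _ a.2
      have h3 := hC' u hu _ b.2
      change (a : G) * b = b * a
      rw [coe_mul] at h1
      rw [← inv_eq_of_mul_eq_one_right h1, mul_inv_rev, inv_eq_of_mul_eq_one_right h2,
        inv_eq_of_mul_eq_one_right h3]
  have hT4 : Nat.card T = 4 := by rw [← H.centralizer_eq (hT ht) h.t_ne, h4]
  obtain ⟨u, huH, hu⟩ := CL.SE.exists_ord2_not_mem H.isSE
  have hb := CL.SE.Elem.ne_one_iff.2 huH
  have e : ↥(T : Subgroup G) ≃ {x : G ⧸ CL.SE.Elem.NT T // x ≠ QuotientGroup.mk 1} := by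
    refine Equiv.ofBijective (fun t => ⟨t.1 • QuotientGroup.mk u, ?_⟩) ⟨?_, ?_⟩
    · rw [← CL.SE.Elem.smul_one_iff.2 (CL.SE.Elem.le_NT T t.2)]
      exact fun e => hb (smul_left_cancel _ e)
    · intro s t hst
      have hst' : s.1 • (QuotientGroup.mk u : G ⧸ CL.SE.Elem.NT T) = t.1 • QuotientGroup.mk u :=
        congrArg Subtype.val hst
      have ht : t.1 • (QuotientGroup.mk u : G ⧸ CL.SE.Elem.NT T) ≠ QuotientGroup.mk 1 := by
        rw [← CL.SE.Elem.smul_one_iff.2 (CL.SE.Elem.le_NT T t.2)]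
        exact fun e => hb (smul_left_cancel _ e)
      exact Subtype.ext ((H.regular _ _ hb ht).unique ⟨s.2, hst'⟩ ⟨t.2, rfl⟩)
    · rintro ⟨y, hy⟩
      obtain ⟨t, ⟨ht, hty⟩, -⟩ := H.regular _ _ hb hy
      exact ⟨⟨t, ht⟩, Subtype.ext hty⟩
  have := Fintype.ofFinite (G ⧸ CL.SE.Elem.NT T)
  have h1 := Fintype.card_subtype_compl (fun x : G ⧸ CL.SE.Elem.NT T => x = QuotientGroup.mk 1)
  rw [Fintype.card_subtype_eq] at h1
  have h2 := Nat.card_congr e
  rw [hT4, Nat.card_eq_fintype_card, h1] at h2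
  have h3 := card_mul_index (CL.SE.Elem.NT T)
  rw [H.card_NT hu huH, hT4, index, Nat.card_eq_fintype_card] at h3
  omega

/-- **Brauer–Suzuki–Wall.** -/
theorem psl2 [IsSimpleGroup G] : ∃ (F : Type) (_ : Field F) (_ : Fintype F),
    (Fintype.card F = 2 * Nat.card K + 1 ∨ Fintype.card F + 1 = 2 * Nat.card K) ∧
      Nonempty (G ≃* PSL(2, F)) := by
  have := Fintype.ofFinite G
  by_cases hk : 2 < Nat.card K
  · obtain ⟨δ, q, w, S, R, h1, h2, h3, h4, h5, h6, h7, h8, h9, h10, h11⟩ := h.exists_steinberg hk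
    obtain ⟨F, _, _, hF, e⟩ := h.psl2_of_stb ⟨h1, h2, h3, h4, h5, h6, h7, h8, h9, h10, h11⟩ hk
    exact ⟨F, inferInstance, inferInstance, by rcases h1 with rfl | rfl <;> omega, e⟩
  · have h1 := Nat.le_of_dvd Nat.card_pos h.even_card
    have h2 : Nat.card K = 2 := by omega
    have : Fact (Nat.Prime 5) := ⟨by norm_num⟩
    obtain ⟨e⟩ := Cfsg.Agent.S0494.result (h.card_eq_sixty h2)
    obtain ⟨e'⟩ := Cfsg.Agent.S0253.result (F := ZMod 5) (ZMod.card 5)
    exact ⟨ZMod 5, inferInstance, inferInstance, Or.inl (by rw [ZMod.card, h2]),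
      ⟨e.trans e'.symm⟩⟩

end Hyp

/-- The hypothesis from normalizers of subgroups of odd order. -/
theorem hyp_of_normalizer [Finite G] {K : Subgroup G} {t s : G} (ht : orderOf t = 2) (htK : t ∈ K)
    (hcomm : ∀ a ∈ K, ∀ b ∈ K, a * b = b * a) (huniq : ∀ x ∈ K, x * x = 1 → x = 1 ∨ x = t)
    (hs : s ∉ K) (hs2 : s * s = 1) (hinv : ∀ x ∈ K, s * x * s⁻¹ = x⁻¹)
    (hC : ∀ g ∈ centralizer ({t} : Set G), g ∈ K ∨ s * g ∈ K)
    (hN : ∀ x ∈ K, x ≠ 1 → Odd (orderOf x) →
      centralizer ({x} : Set G) ≤ centralizer ({t} : Set G))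
    (hone : ∀ u : G, orderOf u = 2 → IsConj t u) : Hyp K t s := by
  have ht2 := CL.Invol.mul_self_of_orderOf_two ht
  have ht1 := CL.Invol.ne_one_of_orderOf_two ht
  refine ⟨htK, ht, hcomm, huniq, hs, hs2, hinv, fun g x hx hx1 hg => hC g ?_, hone⟩
  suffices h1 : g * t * g⁻¹ ∈ K by
    rcases huniq _ h1 (by rw [conj_mul, ht2]; group) with h2 | h2
    · exact absurd (by simpa using h2) ht1
    · exact mem_centralizer_singleton_iff.2 (mul_inv_eq_iff_eq_mul.1 h2)
  rcases Nat.even_or_odd (orderOf x) with ⟨m, hm⟩ | hodd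
  · have hm0 : m ≠ 0 := by rintro rfl; exact (orderOf_pos x).ne' hm
    have h1 : x ^ m * x ^ m = 1 := by rw [← pow_add, ← hm, pow_orderOf_eq_one]
    have h2 : x ^ m ≠ 1 := pow_ne_one_of_lt_orderOf hm0 (by omega)
    rw [← (huniq _ (pow_mem hx m) h1).resolve_left h2, ← conj_pow]
    exact pow_mem hg m
  · have hy1 : g * x * g⁻¹ ≠ 1 := by simpa using hx1
    have hc : g * t * g⁻¹ * (g * x * g⁻¹) = g * x * g⁻¹ * (g * t * g⁻¹) := by
      rw [conj_mul, conj_mul, hcomm _ htK _ hx]
    have hyo : Odd (orderOf (g * x * g⁻¹)) := by rwa [CL.Invol.orderOf_conj]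
    refine (hC _ (hN _ hg hy1 hyo (mem_centralizer_singleton_iff.2 hc))).resolve_right
      fun h1 => hy1 ?_
    generalize g * x * g⁻¹ = y at *
    generalize g * t * g⁻¹ = u at *
    have h2 : y⁻¹ = y := by
      have hsi : s⁻¹ = s := inv_eq_of_mul_eq_one_right hs2
      have h3 := hinv y hg
      have h4 := hcomm _ h1 y hg
      rw [mul_assoc, hc, ← mul_assoc, ← mul_assoc, mul_left_inj] at h4
      rw [← h3, h4, mul_inv_cancel_right]
    have h5 : orderOf y ∣ 2 := orderOf_dvd_of_pow_eq_one (by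
      rw [pow_two]; exact inv_eq_iff_mul_eq_one.1 h2)
    exact orderOf_eq_one_iff.1 (Nat.eq_one_of_dvd_coprimes (Nat.coprime_two_right.2 hyo)
      dvd_rfl h5)

/-- **Brauer–Suzuki–Wall**, with the hypotheses spelled out: `C(t) = K ∪ s K`, `K` abelian with the
unique involution `t`, inverted by the involution `s`; `C(x) ≤ C(t)` for the elements `x ≠ 1` of
odd order of `K`. -/
theorem psl2_of_gendih [Finite G] [IsSimpleGroup G] {K : Subgroup G} {t s : G} (ht : orderOf t = 2)
    (htK : t ∈ K) (hcomm : ∀ a ∈ K, ∀ b ∈ K, a * b = b * a)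
    (huniq : ∀ x ∈ K, x * x = 1 → x = 1 ∨ x = t)
    (hs : s ∉ K) (hs2 : s * s = 1) (hinv : ∀ x ∈ K, s * x * s⁻¹ = x⁻¹)
    (hC : ∀ g ∈ centralizer ({t} : Set G), g ∈ K ∨ s * g ∈ K)
    (hN : ∀ x ∈ K, x ≠ 1 → Odd (orderOf x) →
      centralizer ({x} : Set G) ≤ centralizer ({t} : Set G))
    (hone : ∀ u : G, orderOf u = 2 → IsConj t u) :
    ∃ (F : Type) (_ : Field F) (_ : Fintype F), Odd (Fintype.card F) ∧ 3 < Fintype.card F ∧
      Nonempty (G ≃* PSL(2, F)) := by
  have h := hyp_of_normalizer ht htK hcomm huniq hs hs2 hinv hC hN hone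
  obtain ⟨F, _, _, hF, ⟨e⟩⟩ := h.psl2
  have h1 := Nat.le_of_dvd Nat.card_pos h.even_card
  refine ⟨F, inferInstance, inferInstance, ?_, ?_, ⟨e⟩⟩
  · rcases hF with hF | hF
    · exact ⟨_, hF⟩
    · exact ⟨Nat.card K - 1, by omega⟩
  · by_contra hcon
    have h2 : Nat.card K = 2 := by omega
    have h3 : Fintype.card F = 3 := by omega
    have h4 := h.card_eq_sixty h2
    obtain ⟨e'⟩ := Cfsg.Agent.S0251.result h3
    rw [Nat.card_congr (e.trans e').toEquiv, nat_card_alternatingGroup] at h4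
    simp [Nat.factorial] at h4

end CL.BSW
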