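import Cfsg.Agent.Base
import Cfsg.Agent.TwoFus.DihFus
import Cfsg.Agent.Solv.PiCore

/-!
# The centralizer of a central involution of a dihedral Sylow 2-subgroup
-/

set_option autoImplicit false

open Cfsg Subgroup

namespace CL.GW

variable {G : Type*} [Group G] [Finite G]

/-- Dihedral generators adapted to a given central involution. -/
theorem exists_dihData_mem {S : Sylow 2 G} {n : ℕ} (hn : 2 ≤ n)
    (e : (S : Subgroup G) ≃* DihedralGroup n) {t : G} (ht : orderOf t = 2)
    (htS : t ∈ (S : Subgroup G)) (htZ : ∀ s ∈ (S : Subgroup G), s * t = t * s) :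
    ∃ x y : G, IsDihData (S : Subgroup G) n x y ∧ t ∈ zpowers x := by
  obtain ⟨x, y, h⟩ := exists_isDihData_of_equiv e
  obtain ⟨z, hzx, hz2, hz1, -⟩ := h.exists_z hn
  rcases h.involution_cases hzx hz2 hz1 htS ht with rfl | ⟨i, hi⟩
  · exact ⟨x, y, h, hzx⟩
  have h' : IsDihData (S : Subgroup G) n x t := hi ▸ h.of_outer i
  have h4 := h'.isFourData hzx hz2 hz1
  have hS : (S : Subgroup G) = closure ({z, t} : Set G) :=
    le_antisymm (fun g hg => h'.mem_four_of_commute hzx h4 hg (htZ g hg).symm) (h'.four_le hzx h4)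
  have hd : IsDihData (S : Subgroup G) 2 t z := hS ▸ h4.symm.isDihData
  have h1 := h.card_eq
  rw [hd.card_eq, hd.ord, h.ord] at h1
  obtain rfl : n = 2 := by omega
  exact ⟨t, z, hd, mem_zpowers t⟩

/-- `C(t) = O(C(t)) S`. -/
theorem exists_core_mul {S : Sylow 2 G} {n : ℕ} {x y t : G} (h : IsDihData (S : Subgroup G) n x y)
    (htx : t ∈ zpowers x) (ht2 : t * t = 1) (ht1 : t ≠ 1) {g : G}
    (hg : g ∈ centralizer ({t} : Set G)) :
    ∃ o ∈ (oddCore (centralizer ({t} : Set G))).map (centralizer ({t} : Set G)).subtype,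
      ∃ σ ∈ (S : Subgroup G), g = o * σ := by
  have : Fact (Nat.Prime 2) := ⟨Nat.prime_two⟩
  obtain ⟨N, hN, h1, k, h2⟩ := CL.Transfer.hasNormalPComplement_iff_exists_normal.1
    (h.hasNormalPComplement_centralizer htx ht2 ht1)
  have hS : (S : Subgroup G) ≤ centralizer ({t} : Set G) := fun s hs =>
    mem_centralizer_singleton_iff.2 (h.commute_z htx ht2 hs)
  have h3 := CL.Transfer.sup_eq_top_of_not_dvd_index (S.subtype hS).not_dvd_index h2
  have h4 : (⟨g, hg⟩ : centralizer ({t} : Set G)) ∈ N ⊔ (S.subtype hS : Subgroup _) := by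
    rw [sup_comm, h3]; exact mem_top _
  obtain ⟨o, ho, σ, hσ, e⟩ := mem_sup_of_normal_left.1 h4
  exact ⟨o, mem_map_of_mem _ (CL.le_pPrimeCore
    ((Nat.Prime.coprime_iff_not_dvd Nat.prime_two).2 h1).symm ho), σ, hσ,
    (congrArg Subtype.val e).symm⟩

end CL.GW
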