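import Cfsg.Agent.Base
import Cfsg.Agent.GW.DihCent

/-!
# Set-up for the character theory of groups with dihedral Sylow 2-subgroups

`S = ⟨x, y⟩` is dihedral of order `2 m`, `t` is the involution of `⟨x⟩`, and all involutions
are conjugate. `cenCore t = O(C(t))`, `invNum t` is the number of involutions `≠ t` of `C(t)`.
-/

set_option autoImplicit false

open Cfsg Subgroup

namespace CL.GW

variable {G : Type*} [Group G]

/-- Dihedral Sylow 2-subgroup and one class of involutions. -/
structure Setup (S : Sylow 2 G) (m : ℕ) (x y t : G) : Prop where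
  dih : IsDihData (S : Subgroup G) m x y
  two_le : 2 ≤ m
  t_mem : t ∈ zpowers x
  t_ord : orderOf t = 2
  one_class : ∀ u : G, orderOf u = 2 → IsConj t u

/-- `U = O(C(t))` as a subgroup of `G`. -/
noncomputable def cenCore (t : G) : Subgroup G :=
  (oddCore (centralizer ({t} : Set G))).map (centralizer ({t} : Set G)).subtype

/-- `k`: the number of involutions of `C(t)` other than `t`. -/
noncomputable def invNum (t : G) : ℕ :=
  Nat.card {u : G // u * t = t * u ∧ orderOf u = 2 ∧ u ≠ t}

/-- `a(s) = |U : C_U(s)|`. -/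
noncomputable def invIdx (t s : G) : ℕ :=
  (centralizer ({s} : Set G)).relIndex (cenCore t)

theorem cenCore_le (t : G) : cenCore t ≤ centralizer ({t} : Set G) := map_subtype_le _

theorem cenCore_comm {t u : G} (hu : u ∈ cenCore t) : u * t = t * u :=
  mem_centralizer_singleton_iff.1 (cenCore_le t hu)

theorem conj_mem_cenCore {t u g : G} (hu : u ∈ cenCore t) (hg : g ∈ centralizer ({t} : Set G)) :
    g * u * g⁻¹ ∈ cenCore t := by
  obtain ⟨v, hv, rfl⟩ := hu
  exact ⟨⟨g, hg⟩ * v * ⟨g, hg⟩⁻¹, Normal.conj_mem inferInstance v hv _, rfl⟩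

theorem cenCore_subgroupOf (t : G) :
    (cenCore t).subgroupOf (centralizer ({t} : Set G)) = oddCore (centralizer ({t} : Set G)) :=
  comap_map_eq_self_of_injective (subtype_injective _) _

theorem odd_card_cenCore [Finite G] (t : G) : Odd (Nat.card (cenCore t)) := by
  rw [cenCore, card_map_of_injective (subtype_injective _)]
  exact Nat.coprime_two_right.1 (CL.pPrimeCore_coprime 2 _)

theorem odd_orderOf_of_mem_cenCore [Finite G] {t u : G} (hu : u ∈ cenCore t) :
    Odd (orderOf u) :=
  (odd_card_cenCore t).of_dvd_nat (orderOf_dvd_natCard _ hu)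

namespace Setup

variable {S : Sylow 2 G} {m : ℕ} {x y t : G} (h : Setup S m x y t)
include h

theorem t_sq : t * t = 1 := by rw [← pow_two, ← h.t_ord, pow_orderOf_eq_one]

theorem t_ne : t ≠ 1 := fun e => by simpa [e] using h.t_ord

theorem t_inv : t⁻¹ = t := inv_eq_of_mul_eq_one_right h.t_sq

theorem le_centralizer : (S : Subgroup G) ≤ centralizer ({t} : Set G) := fun _ hs =>
  mem_centralizer_singleton_iff.2 (h.dih.commute_z h.t_mem h.t_sq hs)

theorem t_memS : t ∈ (S : Subgroup G) := h.dih.zpowers_le h.t_mem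

theorem isConj_iff {u : G} : IsConj t u ↔ orderOf u = 2 := by
  refine ⟨fun hc => ?_, h.one_class u⟩
  obtain ⟨c, hc⟩ := _root_.isConj_iff.1 hc
  rw [← h.t_ord, ← hc]
  exact (MulAut.conj c).orderOf_eq t

/-- Another outer involution may be taken as the second generator. -/
theorem of_notMem {s : G} (hs : s ∈ (S : Subgroup G)) (hn : s ∉ zpowers x) : Setup S m x s t :=
  ⟨h.dih.of_notMem' hs hn, h.two_le, h.t_mem, h.t_ord, h.one_class⟩

/-- `C(t) = U S`. -/
theorem exists_mul [Finite G] {g : G} (hg : g ∈ centralizer ({t} : Set G)) :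
    ∃ u ∈ cenCore t, ∃ s ∈ (S : Subgroup G), g = u * s :=
  exists_core_mul h.dih h.t_mem h.t_sq h.t_ne hg

end Setup

/-- The set-up holds when the Sylow 2-subgroup is dihedral and there is no subgroup of index 2. -/
theorem exists_setup [Finite G] {S : Sylow 2 G} {n : ℕ} (hn : 2 ≤ n)
    (e : (S : Subgroup G) ≃* DihedralGroup n) (hG : ∀ H : Subgroup G, H.index ≠ 2) :
    ∃ x y t : G, Setup S n x y t := by
  obtain ⟨x, y, h⟩ := exists_isDihData_of_equiv e
  obtain ⟨z, hzx, hz2, hz1, -⟩ := h.exists_z hn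
  exact ⟨x, y, z, h, hn, hzx, orderOf_eq_prime (by rw [pow_two, hz2]) hz1,
    fun u hu => h.isConj_of_index_ne_two hzx hz2 hz1 hG hu⟩

end CL.GW
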